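import Cfsg.Agent.Lib.QS.Sb
import Cfsg.Agent.Lib.SK.Cg
import Cfsg.Agent.Lib.SJ.Fx
import Cfsg.Agent.Lib.SG.Sg
import Cfsg.Agent.Lib.KI.SpHS
import Cfsg.Prelude.Def_Quasithin

/-! # QS/HS (S1849): `SpF` for `HS`, with the alternative `Sp` (generated data) -/

set_option autoImplicit false
set_option maxRecDepth 100000
set_option Elab.async false

namespace Cfsg.Lib.QS

namespace Ha

open Cfsg.Lib.Calc Cfsg.Lib.Grp Cfsg.Lib.Mathieu Cfsg.Lib.T2 Cfsg.Lib.SG Cfsg.Lib.SH Cfsg.Lib.Leech Sa Subgroup
open Cfsg.Lib.Golay (memL)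
open Cfsg.Lib.OutS.HS (netG vecs cA)
open MulAut (conj)
open scoped commutatorElement

section

variable {G Ω : Type*} [Group G] {δ : ℕ → G} {ws : ℕ → List W} {k k' kn ky : ℕ} {t j : W} {l vs : List W}

theorem fix_fl [MulAction G Ω] {n : ℕ} {pt : ℕ → Ω} {e : ℕ → Fn} {L : Ch} {prev : List ℕ} (h : Fc n pt ⊤ δ e L prev) :
    ∀ t ∈ fl L, ∀ b ∈ prev, t.ev δ • pt b = pt b := by
  induction L generalizing prev with
  | nil => nofun
  | cons l L ih => exact fun t m => (List.mem_append.1 m).elim (fun m => (h.2.1 t m).2) fun m b r => ih h.2.2.2 t m b (.tail _ r)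

theorem ex_col [MulAction G Ω] {n a : ℕ} {pt : ℕ → Ω} {e : ℕ → Fn} {B : List ℕ} {p : ℕ → Bool} {Ls : ℕ → Ch} {Ss : ℕ → List (List W)} {L : Ch}
    (X : Xw n pt B e p δ) (h : Ex n pt e δ Ls Ss k) (r : Ls k = (a, §0 :: l) :: L) (r' : Ls k' = (a, [§0]) :: L) (c : Ss k = []) (c' : Ss k' = []) :
    Ex n pt e δ Ls Ss k' ∧ ∀ x ∈ KK (wsF Ls Ss) δ k, ∃ s ∈ §0 :: l, ∃ y ∈ KK (wsF Ls Ss) δ k', s.ev δ * y = x := by
  simp only [Ex, SH.KK, wsF, c, c', r, r', List.isEmpty_nil, cond_true] at h ⊢
  obtain ⟨f, h⟩ := h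
  refine ⟨⟨⟨f.1, fun t m => f.2.1 t (List.mem_singleton.1 m ▸ .head _), List.nodup_singleton _, f.2.2.2⟩, Set.Subset.antisymm (fun g m => ?_) pd_fl⟩,
    fun x m => let ⟨s, u, y, v, w⟩ := h.le m; ⟨s, u, y, genW_mono δ (List.subset_cons_self ..) (pd_fl v), w⟩⟩
  obtain ⟨s, u, y, v, rfl⟩ := h.le (genW_mono δ (List.cons_subset_cons _ (List.subset_append_right ..)) m)
  have z : (§0).ev δ • pt a = pt a := by rw [ev_l, X.h0, one_smul]
  have p : (s.ev δ * y) • pt a = pt a := (genW_le.2 (fcs z fun t m => fix_fl f.2.2.2 t m a (.head _)) : _ ≤ MulAction.stabilizer G (pt a)) m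
  rw [mul_smul, (f.2.2.2.fix v).2 a (.head _)] at p
  have b := (f.2.1 s u).1.2.1 a f.1
  have d := (f.2.1 §0 (.head _)).1.2.1 a f.1
  exact ⟨s, List.mem_singleton.2 (List.inj_on_of_nodup_map f.2.2.1 u (.head _) (X.hi _ b.1 _ d.1 (by rw [← b.2, ← d.2, p, z]))), y, v, rfl⟩

/-- the word normalises subgroup `kn` -/
def nmF (ws : ℕ → List W) (kn : ℕ) (vs : List W) (s : W) : Fm := .or (orM vs fun w => .mem kn (s ⊡ w)) (nrF kn [s] (ws kn))
/-- the centraliser of `t` normalises subgroup `kn` -/
def cvG (ws : ℕ → List W) (k kn : ℕ) (t : W) (vs l : List W) : Fm := .and (.and (nrF kn vs (ws kn)) (.all k 100 [(t, t)] (nmF ws kn vs §100)))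
  (andM l fun s => .or (.and (tr s t t) (nmF ws kn vs s)) (.all k 100 [(t, .inv s ⊡ t ⊡ s)] (.not .tt)))
theorem cv_of [Finite G] (d : ∀ x ∈ KK ws δ k, ∃ s ∈ l, ∃ y ∈ KK ws δ k', s.ev δ * y = x) (h : (cvG ws k' kn t vs l).holds (KK ws δ) δ)
    (o : (vs ++ ws kn).all (avoid 100) = true) (x : G) (m : x ∈ KK ws δ k) (p : x * t.ev δ = t.ev δ * x) : x ∈ normalizer (KK ws δ kn : Set G) := by
  rw [List.all_append, Bool.and_eq_true] at o
  have k : ∀ {γ s}, (nmF ws kn vs s).holds (KK ws δ) γ → KK ws δ kn = genW γ (ws kn) → (∀ w ∈ vs, w.ev γ = w.ev δ) →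
      s.ev γ ∈ normalizer (KK ws δ kn : Set G) := fun a b c => a.elim (fun a => let ⟨w, u, v⟩ := orM_iff.1 a
        (mul_mem_cancel_right (c w u ▸ nrF_spec rfl h.1.1 (mem_genW δ u))).1 (le_normalizer v)) fun a => nrF_spec b a (mem_genW _ (.head _))
  obtain ⟨s, a, y, b, rfl⟩ := d x m
  rcases andM_iff.1 h.2 s a with ⟨c, e⟩ | c
  · replace c : s.ev δ * t.ev δ = t.ev δ * s.ev δ := c
    exact mul_mem (k e rfl fun _ _ => rfl) (k (s := §100) (h.1.2 y b (mul_left_cancel (a := s.ev δ) (by rw [← mul_assoc, p, ← mul_assoc, ← c, mul_assoc])))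
      (genW_upd o.2).symm fun w u => ev_upd (List.all_eq_true.1 o.1 w u))
  · exact (c y b (show _ = (s.ev δ)⁻¹ * _ * _ * _ by rw [mul_assoc, mul_assoc, ← p]; group) trivial).elim

/-- the centraliser of subgroup `kn` -/
def noF (ws : ℕ → List W) (ky kn : ℕ) (j t : W) : Fm := .and (.and (cmF (ws kn) t) (.mem kn j)) (cenF ky (t :: ws kn) (.one (.pow §100 4)))
theorem nf_o [Finite G] {σ : MulAut G} (i : Function.Injective (conj : G →* _)) (top : CJ ws δ k §0) (h0 : δ 0 = 1) (hY : CY ws δ σ ky j)
    (v : ∀ x ∈ KK ws (dX δ σ) k, x * t.ev (dX δ σ) = t.ev (dX δ σ) * x → x ∈ normalizer (KK ws (dX δ σ) kn : Set (MulAut G)))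
    (h : (noF ws ky kn j t).holds (KK ws (dX δ σ)) (dX δ σ)) (o : band (fr j) (allP (ws k ++ ws kn) fr) = true := by decide +kernel) :
    Nf (fixedSubgroup (t.ev (dX δ σ))) (KK ws δ kn) := by
  obtain ⟨o, o'⟩ := band_eq_true.1 o
  have e : KK ws (dX δ σ) kn = _ := fr_gen (allP_app o').2
  have a : ∀ {x}, x ∈ fixedSubgroup (t.ev (dX δ σ)) ↔ conj x * t.ev (dX δ σ) = t.ev (dX δ σ) * conj x := fun {_} => (fix_iff i).symm.trans eq_comm
  refine ⟨fun _ m => a.2 (mc1.1 (cmF_le h.1.1 (e.ge (mem_map_of_mem _ m)))), fun x m => mem_normalizer_fintype fun y r => (mem_map_iff_mem i).1 (e.le (by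
    rw [map_mul, map_mul, map_inv]
    exact nrm_of (v _ ((fr_gen (allP_app o').1).ge (mem_map_of_mem _ (top.mem.2 (by simp [ev_l, h0])))) (a.1 m)) (e.ge (mem_map_of_mem _ r)))),
    fun x m r => i ((map_pow ..).trans (.trans (cenF_spec h.2 (hY _ (cjf.2 (r _ ((mem_map_iff_mem i).1 (e.le (fr_X (σ := σ) o ▸ h.1.2)))).symm))
      (fcs (a.1 m) fun c s => ?_)) (map_one _).symm))⟩
  rw [fr_X (allP_iff.1 (allP_app o').2 c s), ← map_mul, ← map_mul, r _ (mem_genW δ s)]

theorem pf_ov {K : ℕ → Subgroup G} {us : List (W × W × W)} (h0 : δ 0 = 1) (h : (andM us fun u => .eq u.1 (kw u.2.1 u.2.2)).holds K δ)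
    (o : allP us (fun u => band (u.2.1.overW (us.map Prod.fst)) (u.2.2.overW (us.map Prod.fst))) = true := by decide +kernel) :
    ⁅genW δ (us.map Prod.fst), genW δ (us.map Prod.fst)⁆ = genW δ (us.map Prod.fst) :=
  le_antisymm (commutator_le_self _) (genW_le.2 (List.forall_mem_map.2 fun u m => have r := band_eq_true.1 (allP_iff.1 o u m)
    meq (Eq.symm (andM_iff.1 h u m)) (commutator_mem_commutator (W.ev_mem_of_overW h0 (fun _ => mem_genW δ) r.1)
      (W.ev_mem_of_overW h0 (fun _ => mem_genW δ) r.2))))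

end

/-- masks -/
def net_M_0 : Tr := .node (.node (.node (.node (.leaf (nat_lit 0))
  (.leaf (nat_lit 0x44054010401414101411541101401)))
  (.leaf (nat_lit 0xe0001000a0004000400a8008600a7)))
  (.node (.leaf (nat_lit 0))
  (.leaf (nat_lit 0x9f1b90b80000000017ef627e))))
  (.node (.node (.node (.leaf (nat_lit 0))
  (.leaf (nat_lit 0x3a5a0000e1e40000690400002476)))
  (.leaf (nat_lit 0x220000200200000200000220002202)))
  (.node (.leaf (nat_lit 0))
  (.leaf (nat_lit 0x7a5a0000e9bd0000f0060000a6ef))))
/-- masks -/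
def net_M_1 : Tr := .node (.node (.node (.node (.leaf (nat_lit 0))
  (.leaf (nat_lit 0x8060808080a02080804020a0000)))
  (.leaf (nat_lit 0x12010122200000210203121130302200)))
  (.node (.leaf (nat_lit 0))
  (.leaf (nat_lit 0xe584d8832c4e5e2))))
  (.node (.node (.node (.leaf (nat_lit 0))
  (.leaf (nat_lit 0xe584d8ceb63f11c)))
  (.leaf (nat_lit 0x9400a4000000c0006400f200860086)))
  (.node (.leaf (nat_lit 0x9fb5917800000000e5be2056))
  (.leaf (nat_lit 0x40a08030c0b080908080f0b0d0a000b))))
/-- masks -/
def net_M_2 : Tr := .node (.node (.node (.node (.leaf (nat_lit 0))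
  (.leaf (nat_lit 0x200200002002000000202)))
  (.leaf (nat_lit 0x509010b0204060202070f030107050a)))
  (.node (.leaf (nat_lit 0))
  (.leaf (nat_lit 0xcaea5c704471930))))
  (.node (.node (.node (.leaf (nat_lit 0))
  (.leaf (nat_lit 0x52cc2c0c0000000079c77d1a)))
  (.leaf (nat_lit 0xc00000800080a020404080a08020008)))
  (.node (.leaf (nat_lit 0xcaea5c97c0ff401))
  (.leaf (nat_lit 0x28005600860082000200c7000e00a6))))
/-- masks -/
def net_M_3 : Tr := .node (.node (.node (.node (.leaf (nat_lit 0))
  (.leaf (nat_lit 0x2c00060000009800c200a800ce0010)))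
  (.leaf (nat_lit 0x40111041440441041400104111104101)))
  (.node (.leaf (nat_lit 0))
  (.leaf (nat_lit 0x5894218c0000000038615d56))))
  (.node (.node (.leaf (nat_lit 0))
  (.leaf (nat_lit 0x94b0000022420000d78200002c92)))
  (.node (.leaf (nat_lit 0x158000006eca0000c5df00002f92))
  (.leaf (nat_lit 0x201030021120222003312131020220))))
/-- masks -/
def net_M : Tr := .node (.node net_M_0
  net_M_1)
  (.node net_M_2
  net_M_3)
/-- the network -/
noncomputable def net : Net :=
  ⟨(nat_lit 5), (nat_lit 7), (nat_lit 13), get (nat_lit 24) (nat_lit 0x40000020000010000008000004000002000001000002000004000008000010000020000040), Tr.masks net_M (nat_lit 128) (nat_lit 1) (nat_lit 13) (nat_lit 2163744) (nat_lit 20)⟩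
theorem net_ok : net.OK 100 := fun _ => of_allLt (by decide +kernel : allLt 5 (net.ok 100) = true)
/-- the generators as words -/
def gw : List (List ℕ) := [[], [4, 1, 1, 1, 3, 2, 4, 1, 1, 3], [4, 2, 2, 3, 1, 4, 2, 2, 2, 3], [2, 3, 1, 4, 2, 2, 2, 4, 4, 2, 4, 4, 2, 3, 2, 3], [4, 1, 4, 1, 3, 3, 1, 3, 3, 1, 1, 1, 3, 2, 4, 1]]
theorem nG : NetG hs net 100 7 (OutS.ptV vecs) 44352000 := { netG with
  ok := net_ok
  acts := fun c h => let ⟨g, _, a⟩ := netG.gd (gw.getD c []); ⟨g, net_ok.acts_of_rep (w := 7) (by decide) (by decide)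
    (have e := (by decide +kernel : ∀ c < 5, tabL OutS.HS.net 100 7 (gw.getD c []) = net.code 100 7 c ∧ net.code 100 7 c < 2 ^ 700) c h
    ⟨e.2, e.1 ▸ a⟩)⟩ }
/-- the maps -/
noncomputable def F : W → Fn := nF net 100 7 3277888
/-- the base -/
def B : List ℕ := [3, 54, 31, 81, 7, 80]
theorem base : Base 100 (OutS.ptV vecs) (⊤ : Subgroup hs) B := have b := (KI.cx netG cA rfl []).bas; ⟨b.lt, fun g _ => b.one g⟩
theorem ex_g : ∃ g : ℕ → hs, Lab g 3277888 ∧ ∀ c, net.Acts 100 (OutS.ptV vecs) (g c) c := net_lab nG base (by decide +kernel)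
/-- the generators -/
noncomputable def g0 : ℕ → hs := ex_g.choose
/-- the letters -/
noncomputable def γ : ℕ → hs := gm g0
/-- the automorphism on the generators -/
def lab : List W := [§0, §3, §4, §1, §2]
/-- the central involution -/
def wz : W := §0x1324232413231324
/-- the other involution -/
def wu : W := §0x1331131141331131
/-- an outer involution -/
def wr : W := §99 ⊡ §0x1444411331313
/-- commutators -/
def us : List (W × W × W) := [(§0x4232311313114422, (.inv §0x4232311313114422) ⊡ §0x22324444244232242 ⊡ §0x4232311313114422 ⊡ (.inv §0x22324444244232242) ⊡ §0x4232311313114422, §0x22324444244232242 ⊡ §0x4232311313114422 ⊡ (.inv §0x22324444244232242) ⊡ (.inv §0x4232311313114422)), (§0x22324444244232242, §0x4232311313114422 ⊡ (.inv §0x22324444244232242) ⊡ (.inv §0x4232311313114422) ⊡ §0x22324444244232242 ⊡ §0x4232311313114422, (.inv §0x22324444244232242) ⊡ (.inv §0x4232311313114422) ⊡ §0x22324444244232242)]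
/-- the old generators -/
def old (c : ℕ) : ℕ := [0x0, 0x111441422323142, 0x132232313233222, 0x324423324224424, 0x313311314413314].getD c 0
/-- the automorphism on the points -/
def pi (i : ℕ) : ℕ := get 7 0x605e4a2bf796d80a645dcaf5aa8aa74875041387cc24e70c7911a28352518b212f9eb4766a5380c309bc5f020e366bae8156aa19e3a7c82423810cf4ca139c08ead18c458ac26b2d1a59b446b6b351f880eded9b8809600 i
/-- a chain -/
def L1 : Ch := [(82, [§0, §0x3131141313332222, §0x4422233333313242, §0x2231144422411, §0x13114142233242, §0x242241323314133, §0x24423314144413133, §0x44411113144411314, §0x113111141131423231, §0x114114242222314, §0x11324424222322, §0x1442232244131313, §0x233323332331142, §0x144233131424133, §0x142441131113233331, §0x2333114232332, §0x1111142314423222, §0x2244244411113111, §0x231331424111113, §0x114222223231111322]), (28, [§0, §0x11313144222311333, §0x11414241442411424, §0x32222441424422244, §0x231113133132241, §0x11423144133313231, §0x3131414222413324, §0x4132242331111441, §0x231142442422241, §0x422324222413324,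 §0x111332444114131411, §0x2424232331442241]), (94, [§0, §0x13133241331441442, §0x141313113241314, §0x2324441133224142]), (66, [§0, §0x13223132423324]), (52, [§0, §0x141424132413]), (75, [§0]), (18, [§0]), (80, [§0]), (87, [§0]), (0, [§0, wz])]
/-- a chain -/
def L3 : Ch := [(61, [§0, §0x114242233242244, §0x1331444441324244, §0x333133132333233, §0x32422222311333, §0x1113323313331424, §0x331131441131322, §0x11323141331442242, §0x4222244441132333, §0x442313313224241, §0x1322444131331411, §0x4231114233142324, §0x2422313223131144, §0x2322323131441442, §0x4133242414422314, §0x44224413333223, §0x1113322423223141, §0x1311322224413, §0x3233131144444232, §0x223111114413333, §0x111323322441133113, §0x32241423113241442, §0x11131111114222, §0x242442424411424, §0x441133144231422, §0x23142241113332333, §0x2311333111133331, §0x24223224241133324, §0x23142224224423111, §0x11324441132224241, §0x3111311441444142, §0x23241442332422222, §0x11141141424413, §0x13131413223233, §0x131132313242244233, §0x1144131322242332,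 §0x4142323313223224, §0x1444113333144424, §0x22411322233142332, §0x4232222331142411]), (76, [§0, §0x2242241144244244, §0x331422223233, §0x3313313322311311, §0x414232223132314, §0x23223113244231, §0x2324422331411322, §0x2322444244413233, §0x1444132414244142, §0x41322331424241133, §0x331111411311314, §0x44222324113133, §0x13231114442313142, §0x232222244413324, §0x33132413313231, §0x4111111324244241, §0x44223131324411423, §0x42332424144111322]), (50, [§0, §0x113113242441132231, §0x1444132414222324, §0x1311132444132441])]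
/-- a chain -/
def L4 : Ch := [(0, [§0, §0x144241133222424242, §0x1444423113322223, §0x131422413311313, .inv §0x144241133222424242, .inv §0x1444423113322223, .pow §0x144241133222424242 2, §0x1444423113322223 ⊡ §0x144241133222424242, §0x131422413311313 ⊡ §0x144241133222424242, (.inv §0x1444423113322223) ⊡ §0x144241133222424242, §0x131422413311313 ⊡ §0x1444423113322223, §0x1144244411131144 ⊡ §0x131422413311313, §0x144241133222424242 ⊡ §0x131422413311313, §0x1444423113322223 ⊡ §0x131422413311313, §0x131422413311313 ⊡ §0x1444423113322223 ⊡ §0x144241133222424242, §0x1444423113322223 ⊡ §0x131422413311313 ⊡ §0x144241133222424242]), (1, [§0, §0x1144244411131144, §0x141424132413, §0x141424132413 ⊡ §0x1144244411131144])]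
/-- a chain -/
def L5 : Ch := [(1, [§0, §0x42224231444441, .inv §0x42224231444441, §0x13114414231141 ⊡ §0x42224231444441, §0x4133141111324441 ⊡ §0x42224231444441, .pow §0x42224231444441 2, (.inv §0x4133141111324441) ⊡ §0x42224231444441, §0x4133141111324441 ⊡ (.inv §0x42224231444441), .pow (.inv §0x42224231444441) 2, §0x42224231444441 ⊡ §0x13114414231141 ⊡ §0x42224231444441, (.inv §0x42224231444441) ⊡ §0x4133141111324441 ⊡ §0x42224231444441, §0x4133141111324441 ⊡ (.pow §0x42224231444441 2), (.inv §0x13114414231141) ⊡ (.pow §0x42224231444441 2), §0x42224231444441 ⊡ (.inv §0x4133141111324441) ⊡ §0x42224231444441, (.inv §0x42224231444441) ⊡ (.inv §0x4133141111324441) ⊡ §0x42224231444441]), (8, [§0, §0x13114414231141, .inv §0x13114414231141, .pow §0x13114414231141 2, (.inv §0x4133141111324441) ⊡ §0x13114414231141, §0x4133141111324441 ⊡ (.pow §0x13114414231141 2), (.inv §0x4133141111324441) ⊡ (.pow §0x13114414231141 2), (.inv §0x13114414231141) ⊡ §0x4133141111324441 ⊡ (.pow §0x13114414231141 2)]),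 (0, [§0, §0x4133141111324441, .inv §0x4133141111324441])]
/-- a chain -/
def L6 : Ch := [(0, [§0, §0x23114423313322313, .inv §0x23114423313322313, §0x13142423311323144 ⊡ §0x23114423313322313, §0x11422411411131313 ⊡ §0x23114423313322313, §0x22313224442232423 ⊡ §0x23114423313322313, §0x14224223313314 ⊡ §0x23114423313322313, (.inv §0x13142423311323144) ⊡ §0x23114423313322313, (.inv §0x11422411411131313) ⊡ §0x23114423313322313, (.inv §0x22313224442232423) ⊡ (.inv §0x23114423313322313), (.pow §0x13142423311323144 2) ⊡ §0x23114423313322313, §0x22313224442232423 ⊡ §0x13142423311323144 ⊡ §0x23114423313322313, (.inv §0x22313224442232423) ⊡ §0x13142423311323144 ⊡ §0x23114423313322313, §0x13142423311323144 ⊡ §0x14224223313314 ⊡ §0x23114423313322313, (.inv §0x13142423311323144) ⊡ §0x14224223313314 ⊡ §0x23114423313322313]), (24, [§0, §0x13142423311323144, .inv §0x13142423311323144, §0x11422411411131313 ⊡ §0x13142423311323144, §0x22313224442232423 ⊡ §0x13142423311323144, .pow §0x13142423311323144 2, (.inv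 §0x11422411411131313) ⊡ §0x13142423311323144, (.inv §0x11422411411131313) ⊡ (.inv §0x13142423311323144)]), (3, [§0, §0x11422411411131313, .inv §0x11422411411131313, §0x22313224442232423 ⊡ §0x11422411411131313, §0x14224223313314 ⊡ §0x11422411411131313, (.inv §0x22313224442232423) ⊡ §0x11422411411131313, §0x22313224442232423 ⊡ (.inv §0x11422411411131313), §0x14224223313314 ⊡ (.inv §0x11422411411131313), (.inv §0x22313224442232423) ⊡ (.inv §0x11422411411131313), §0x14224223313314 ⊡ §0x22313224442232423 ⊡ §0x11422411411131313, §0x22313224442232423 ⊡ §0x14224223313314 ⊡ §0x11422411411131313, §0x11422411411131313 ⊡ §0x14224223313314 ⊡ §0x11422411411131313, (.inv §0x22313224442232423) ⊡ §0x14224223313314 ⊡ §0x11422411411131313, (.inv §0x22313224442232423) ⊡ §0x14224223313314 ⊡ (.inv §0x11422411411131313)]), (1, [§0, §0x22313224442232423, §0x14224223313314, .inv §0x22313224442232423, §0x14224223313314 ⊡ §0x22313224442232423, §0x22313224442232423 ⊡ §0x14224223313314, (.inv §0x22313224442232423) ⊡ §0x14224223313314,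 §0x14224223313314 ⊡ (.inv §0x22313224442232423), §0x22313224442232423 ⊡ §0x14224223313314 ⊡ §0x22313224442232423, (.inv §0x22313224442232423) ⊡ §0x14224223313314 ⊡ §0x22313224442232423, §0x14224223313314 ⊡ §0x22313224442232423 ⊡ §0x14224223313314, §0x22313224442232423 ⊡ §0x14224223313314 ⊡ (.inv §0x22313224442232423)])]
/-- a chain -/
def L7 : Ch := [(0, [§0, §0x1131324244, §0x142441322223241, §0x22224232232233314, §0x4222233323142313, §0x142441322223241 ⊡ §0x1131324244, §0x22224232232233314 ⊡ §0x1131324244, §0x4222233323142313 ⊡ §0x1131324244, §0x22224232232233314 ⊡ §0x142441322223241, §0x4222233323142313 ⊡ §0x142441322223241, §0x4222233323142313 ⊡ §0x22224232232233314, §0x22224232232233314 ⊡ §0x142441322223241 ⊡ §0x1131324244, §0x4222233323142313 ⊡ §0x142441322223241 ⊡ §0x1131324244, §0x4222233323142313 ⊡ §0x22224232232233314 ⊡ §0x1131324244, §0x4222233323142313 ⊡ §0x22224232232233314 ⊡ §0x142441322223241, §0x4222233323142313 ⊡ §0x22224232232233314 ⊡ §0x142441322223241 ⊡ §0x1131324244])]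
/-- a chain -/
def L8 : Ch := [(100, [§0, §99]), (8, [§0, §0x4423323323131413, .inv §0x4423323323131413, §0x142442242231322 ⊡ §0x4423323323131413, .pow §0x4423323323131413 2, (.inv §0x142442242231322) ⊡ (.inv §0x4423323323131413), §0x4423323323131413 ⊡ §0x142442242231322 ⊡ §0x4423323323131413, (.inv §0x4423323323131413) ⊡ §0x142442242231322 ⊡ §0x4423323323131413]), (0, [§0, §0x42324223313231, §0x142442242231322, .inv §0x42324223313231, .inv §0x142442242231322, §0x11133242322232441 ⊡ §0x42324223313231, .pow §0x42324223313231 2, §0x142442242231322 ⊡ §0x42324223313231, (.inv §0x11133242322232441) ⊡ §0x42324223313231, (.inv §0x142442242231322) ⊡ §0x42324223313231, §0x11133242322232441 ⊡ §0x142442242231322, .pow §0x142442242231322 2, (.inv §0x42324223313231) ⊡ §0x142442242231322, §0x142442242231322 ⊡ (.inv §0x42324223313231), (.inv §0x11133242322232441) ⊡ (.inv §0x142442242231322), .pow (.inv §0x142442242231322) 2]), (1, [§0, §0x11133242322232441, .inv §0x11133242322232441, .pow §0x11133242322232441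 2])]
/-- a chain -/
def L9 : Ch := [(99, [§0, §0x224114133, §0x22311413231, §0x1113324233114, §0x14444411144, §0x114223131114, §0x132333331324, §0x2424411313, §0x242424422231, §0x222224131114, §0x22322242314, §0x2223111114222, §0x2413324231, §0x22224411422, §0x2411132444422, §0x4242444441, §0x132422244142, §0x44114233222, §0x1324241423141, §0x24413322411141, §0x1441311413233, §0x314423144424, §0x22314131324, §0x1442314414, §0x3141133, §0x142323141441, §0x3132223231, §0x24233233241114, §0x241142232424, §0x1411144113, §0x22244241113, §0x232231324231, §0x1131324244, §0x1313222241331, §0x2313244131422, §0x113331441133, §0x242422411133, §0x223224422444, §0x3241322232, §0x2333323332422, §0x4113324411, §0x2222331314233, §0x23314242444, §0x133241322232, §0x222424224223, §0x22314133142, §0x232424113132, §0x231413332222, §0x32423141311, §0x4222413322, §0x1311113114441, §0x14244133141144, §0x41322231311, §0x13111332441441, §0x242332331, §0x2424132223, §0x4222244224, §0x142314142314, §0x442233314411, §0x131441142232,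 §0x1324242332411, §0x11322331111, §0x14231333233, §0x11131314241, §0x313311424414, §0x132414231142, §0x224413222231, §0x2313331413222, §0x232313141442, §0x144111142324, §0x1132232444113, §0x22444233233311, §0x131442331442, §0x22333244113, §0x2331113231444, §0x31114242244, §0x114223131132, §0x24144132444, §0x2242324424224, §0x1114422441441, §0x142242311111, §0x1314144242, §0x144444111132, §0x2222441142414, §0x14133111114, §0x3323131331, §0x24241142332, §0x2423224411, §0x42422413141, §0x2411331442413, §0x2314423233114, §0x1331411424414, §0x233231114444, §0x1413313132441, §0x22323331142, §0x24442441113144, §0x32423131413, §0x141142314414, §0x11442244422, §0x33114144244]), (102, [§0, §0x1442233313, §0x113231, §0x224133231423, §0x2414442413, §0x232233322, §0x114414, §0x1444133141, §0x44411333241, §0x42424444244, §0x32411331333, §0x4231133224, §0x131332231, §0x32444111, §0x2331113233, §0x4423144224, §0x11414441441, §0x31114224, §0x414444144, §0x2224442414, §0x2242222311, §0x13131411423, §0x3311422223,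 §0x241442, §0x4222233242, §0x44142232231, §0x132222244422, §0x11314422322, §0x32332441141, §0x3132422413, §0x1441422314, §0x44144414242, §0x11132441, §0x4423144444, §0x32242313, §0x44233311411, §0x111332231, §0x241441141332, §0x22231332332, §0x1323133141, §0x424424233, §0x32333314, §0x11314231333, §0x3241132442, §0x1142222322, §0x4241314231, §0x111322422, §0x14411424111, §0x333142241322, §0x411424244, §0x224111, §0x2222323311, §0x44142222332, §0x223324244131, §0x1324423242, §0x2242224142, §0x2223244231, §0x4241131414, §0x2233332311, §0x224133142222, §0x2242233141, §0x14114144223, §0x1333141111, §0x4231322242, §0x4241131311, §0x114242244131, §0x1444413314, §0x4423142444, §0x311141444232, §0x31413224223, §0x1111422313, §0x3231333142, §0x222232231423, §0x44424233142, §0x42313322, §0x23324413332, §0x42444131]), (15, [§0, §0x41144411131, §0x241314, §0x42444111441, §0x3324131422, §0x31333223223, §0x33141444, §0x442324444232, §0x241442323111, §0x3333314133, §0x4423244444, §0x24132413, §0x11141422, §0x2241422222,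 §0x41141144424, §0x1114423144]), (186, [§0, §0x144231, §0x323142311444, §0x242233311142, §0x241441133141, §0x133244113222, §0x1324131424, §0x111422331442, §0x241332, §0x4441314244244]), (51, [§0, §0x11441424411313, §0x144142244111, §0x222331132332, §0x11113332224442, §0x11331314423131]), (150, [§0]), (98, [§0, §0x22411414413231, §0x1313323311332411, §0x23331113311423, §0x23144224442223, §0x133113244444111414])]
/-- a chain -/
def L11 : Ch := [(47, [§0, §0x14222241441133, §0x4111142311, §0x44133144224, §0x224114113223333, §0x2222331132224, §0x32242411411144, §0x22444233131113, §0x2444424133, §0x33231422441114, §0x1414232244144, §0x1131324244, §0x111142313132, §0x41444423332, §0x2322244441114, §0x32444232314131, §0x42233113114, §0x41314411411, §0x31423144131, §0x114111414244, §0x441441324113, §0x42333332311, §0x33142332411422, §0x31411442323142, §0x2233231111313, §0x13131414422, §0x2233131424, §0x41142314413, §0x32423322231, §0x441311442314, §0x411333223, §0x33331332, §0x322233311113, §0x244114144424,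 §0x24444242411, §0x441444442311, §0x3141323111, §0x313141444142, §0x13233222241, §0x24442413133231, §0x22222331131, §0x23231144132333, §0x4132313324, §0x244113233241423, §0x2223241332, §0x3241314222442, §0x4241142233313, §0x13224444423324, §0x33144132231422, §0x111332223333, §0x111113332441, §0x2231333313233, §0x44111141141422, §0x4444411111, §0x444113244, §0x11133314222444, §0x233111111441, §0x42411142442, §0x313141422324, §0x411444223, §0x23331114242413, §0x2231144422411, §0x22314442311141, §0x4411311332314, §0x33333111131441, §0x13131311423, §0x4244411322313, §0x22222331311113, §0x4442441133131, §0x41311411132, §0x1142333231, §0x22333323141444, §0x422444413, §0x44131441441, §0x1113314413, §0x3324411424, §0x314133142224, §0x41141442331324, §0x232231422, §0x131411324442, §0x411333333223, §0x133111133131, §0x31411132241, §0x133244113224, §0x22231111132233, §0x3111422441111, §0x14441422311144, §0x2222444424231, §0x4111442444113, §0x14422231113, §0x314142313242, §0x33113333, §0x4231133111322, §0x22223332222,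 §0x131441424411, §0x22331314423, §0x23244244441, §0x42313311444244, §0x2441114, §0x242311424411]), (158, [§0, §0x113241113, §0x42442332333, §0x41424113324, §0x3313231323, §0x11114131, §0x4244113141, §0x241333324414, §0x332244232, §0x323133224233, §0x22423311, §0x32331333233, §0x331311314, §0x32333113233, §0x42322411423, §0x1413331414, §0x4244223113, §0x42322244231, §0x414233324, §0x2223223131, §0x1314222232, §0x411132244244, §0x313133244, §0x14133222332, §0x232311422, §0x44224424441, §0x42224411422, §0x14224144422, §0x33244233233, §0x13244241331, §0x44424244244, §0x22224424231, §0x4231444222, §0x4224113313, §0x424244133224, §0x411311141, §0x3244131114, §0x114114423, §0x224133224232, §0x2324133114, §0x41444244, §0x324133114424, §0x332224244424, §0x41441131114, §0x4114231444, §0x4232331414, §0x313224444, §0x33131332224, §0x323133244, §0x444233313, §0x4132223113, §0x242442313311, §0x242232411311, §0x42442223, §0x44224224144, §0x333222414444, §0x311144113241, §0x2422413131, §0x3324442332, §0x111114131132,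 §0x231442422222, §0x3131132414, §0x131132333, §0x44442242331, §0x113233311422, §0x4424241332, §0x31313111323, §0x4242233113, §0x1311411113, §0x114113224144, §0x232231144, §0x232222242, §0x4424224414, §0x131423111332, §0x3222441324, §0x333311424, §0x14441141322]), (63, [§0, §0x222331, §0x13223142, §0x3231132424, §0x2241324131, §0x31414241]), (146, [§0, §0x3331441444, §0x423224223, §0x24241311, §0x1414233142]), (8, [§0, §0x23314142, §0x241423142331, §0x11414441, §0x11414411141444, §0x222314231411, §0x14224222411311, §0x1322323142, §0x3314142241, §0x132232332441, §0x11333141444422, §0x13241142222331, §0x1423114423, §0x2244411131, §0x2323132423, §0x14111414441441]), (123, [§0, §0x441132332441323, §0x414233144142233, §0x1324423132424113]), (45, [§0, §0x44144441133233, §0x44144223333233])]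
/-- the chains: 1 `C(z)`, 2 `C_Aut(z)`, 3 `C(u)`, 4 `O₂(C(z))`, 5 `A₆`, 6 `A₈`, 7 `2⁴`, 8 Sylow of `Aut`, 9 and 11 `HS`, 10 and 12 `M₂₂` -/
def Ls (k : ℕ) : Ch := [[], L1, (100, [§0, §99]) :: L1, L3, L4, L5, L6, L7, L8, L9, (99, [§0]) :: L9.tail, L11, (47, [§0]) :: L11.tail].getD k []
/-- the generators -/
def Ss (k : ℕ) : List (List W) := [[], [], [], [], [[§0x144241133222424242, §0x1444423113322223, §0x131422413311313], [§0x1144244411131144, §0x141424132413]], [[§0x42224231444441], [§0x13114414231141], [§0x4133141111324441]], [[§0x23114423313322313], [§0x13142423311323144], [§0x11422411411131313], [§0x22313224442232423, §0x14224223313314]], [[§0x1131324244, §0x142441322223241, §0x22224232232233314, §0x4222233323142313]], [[§99], [§0x4423323323131413], [§0x42324223313231, §0x142442242231322], [§0x11133242322232441]]].getD k []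
/-- the generators of the subgroups -/
def ws : ℕ → List W := wsF Ls Ss

theorem mo : Mo hs 100 (OutS.ptV vecs) g0 F 3 B.tail :=
  ⟨netG.inj, base, ex_g.choose_spec.1.zero, ac_net net_ok netG.pos netG.two netG.le ex_g.choose_spec.1 ex_g.choose_spec.2⟩
instance fin : Finite hs := netG.fin
theorem one (c : ℕ) : g0 (c + 5) = 1 := by
  have := ex_g.choose_spec.1.inv (c + 5)
  rwa [get_eq_zero (n := 5) (by decide) (by omega), ex_g.choose_spec.1.zero, one_mul] at this
theorem top : genW g0 [§1, §2, §3, §4] = ⊤ := (netG.mdl_of_cA cA).gen _ (List.forall_mem_map.2 fun c m => ⟨_, ev_mem_of_forall (fun c => match c with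
  | 0 => meq mo.h0.symm (one_mem _)
  | 1 | 2 | 3 | 4 => mem_genW g0 (t := §_) (by simp)
  | c + 5 => meq (one c).symm (one_mem _)) (dw (old c)), fun i h => (by decide +kernel : ∀ c < 5, ∀ i < 100,
    F (dw (old c)) false i = get 7 (OutS.HS.net.code 100 7 c) i) c (List.mem_range.1 m) i h ▸ (mo.ac (dw (old c))).1 i h⟩)
theorem ex_sg : ∃ σ, Sg g0 lab σ := by
  have p : ∀ i < 100, pi i < 100 ∧ pi (pi i) = i := by decide +kernel
  obtain ⟨φ, h⟩ := exists_hom_of_map netG.inj (π := pi) (fun g e => base.2 g trivial fun b m => by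
      simpa only [(p b (base.1 b m)).2] using e _ (p b (base.1 b m)).1) (S := (List.range 5).map fun c => (g0 c, newLet g0 lab c))
    (List.forall_mem_map.2 fun c m => ⟨_, (mo.ac §c).1, fun i s => ((mo.ac (labW lab c)).1 _ (p i s).1).2.trans (congrArg _
      ((by decide +kernel : ∀ c < 5, ∀ i < 100, F (labW lab c) false (pi i) = pi (F §c false i)) c (List.mem_range.1 m) i s))⟩)
    fun P e => top_le_iff.1 (top.ge.trans (genW_le.2 fun t m => by
      simp only [List.mem_cons, List.not_mem_nil, or_false] at m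
      rcases m with rfl | rfl | rfl | rfl <;> exact List.forall_mem_map.1 e _ (by decide)))
  exact mo.sg (fun c => (lt_or_ge c 5).elim (fun s => List.forall_mem_map.1 h c (List.mem_range.2 s)) fun s => by
    obtain ⟨c, rfl⟩ := Nat.exists_eq_add_of_le' s
    exact ((congrArg φ (one c)).trans (map_one φ)).trans mo.h0.symm) top (by decide +kernel)
/-- the automorphism -/
noncomputable def σ : MulAut hs := ex_sg.choose
theorem sg : Sg g0 lab σ := ex_sg.choose_spec
/-- holds in the group -/
abbrev HJ (φ : Fm) : Prop := φ.holds (KK ws γ) γ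
/-- holds in the automorphism group -/
abbrev HX (φ : Fm) : Prop := φ.holds (KK ws (dX γ σ)) (dX γ σ)
theorem hq {φ : Fm} (c : Xw.qB B (fun c => F (dw c)) (fun _ => true) φ = true := by decide +kernel) : HJ φ := mo.xw.qf c
theorem out : Nat.card (Out hs) = 2 := (card_out_congr hsEquiv).trans OutS.HS.card_out
theorem fb : SJ.Fb hs := ⟨simple_hs, ⟨_, _, hq (φ := .not (tr §1 §3 §3))⟩, out2_of out⟩
theorem inj : Function.Injective (conj : hs →* _) := fun _ _ => fb.cj_inj
theorem el (i c : ℕ) (e : eqF B (get 7 (tabL OutS.HS.net 100 7 (KI.HS.K.w0.getD i []))) (F (dw c) false) = true := by decide +kernel) :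
    KI.gam netG KI.HS.K.w0 i = γ c := (base.eq_iff netG.inj trivial trivial (netG.gd _).choose_spec.2 (mo.ac (dw c)).1).2 e
theorem cz : Nat.card (centralizer {wz.ev γ}) = 7680 := by
  have := KI.card_cen1 (KI.cx netG cA rfl KI.HS.aA.w0) (band_eq_true.1 (of_dicK KI.HS.aA.ok)).1
  rwa [KI.gam_eq _ (w1 := KI.HS.K.w0) (j := 0) (by decide), el 0 0x1324232413231324] at this
theorem cu : Nat.card (centralizer {wu.ev γ}) = 2880 := by
  have := KI.card_cen1 (KI.cx netG cA rfl KI.HS.bA.w0) (band_eq_true.1 (of_dicK KI.HS.bA.ok)).1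
  rwa [KI.gam_eq _ (w1 := KI.HS.K.w0) (j := 1) (by decide), el 1 0x1331131141331131] at this
theorem cls : ∀ j : hs, j * j = 1 → j ≠ 1 → IsConj (wz.ev γ) j ∨ IsConj (wu.ev γ) j :=
  have C := KI.cx netG cA rfl KI.HS.K.w0
  have h := band_eq_true.1 (of_dicK KI.HS.K.ok)
  cls_of (g := 1) (h := 1) (fun _ => C.exists_isConj (C.pgp two_pos h.1) (by decide) (by decide) h.2) (el 0 0x1324232413231324) (el 1 0x1331131141331131)
    ⟨(one_mul _).trans (mul_one _).symm, (one_mul _).trans (mul_one _).symm⟩
theorem s1 : ¬SG.Inn σ :=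
  have := Fact.mk (by decide : Nat.Prime 7)
  have h : HJ (.and (.one (.pow §0x2424132241 7)) (.not (.one §0x2424132241))) := hq
  have d : 7 ∣ Nat.card (genW γ (List.map W.l [0x2424132241])) := orderOf_eq_prime h.1 h.2 ▸ Subgroup.orderOf_dvd_natCard _ (mem_genW γ (.head _))
  not_inn inj sg.1 cls (mo.fix sg (by decide +kernel)) (fun e => absurd (cz ▸ d.trans e) (by decide)) (fun e => absurd (cu ▸ d.trans e) (by decide))
    (mo.ne sg (t := §1) (by decide +kernel))
/-- the points -/
noncomputable def pt := pd (conj.comp (.id hs)) σ 100 (OutS.ptV vecs)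
/-- the maps of the letters -/
noncomputable def E : ℕ → Fn := eM 100 F lab
/-- the letters used -/
noncomputable def p : ℕ → Bool := pX (fun _ => true) lab
theorem xw : Xw 202 pt B E p (dX γ σ) := mo.xw2 inj (fun _ _ => id) (fun _ _ => rfl) mo.h0 sg s1
/-- exact chains -/
abbrev EX (k : ℕ) : Prop := Ex 202 pt E (dX γ σ) Ls Ss k
theorem c0 : Nat.card (centralizer {(§0).ev γ}) = 44352000 := by
  rw [ev_l, show γ 0 = 1 from mo.h0, show centralizer {(1 : hs)} = ⊤ from eq_top_iff.2 fun x _ => mc1.2 ((mul_one x).trans (one_mul x).symm), card_top, netG.card]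
theorem x1 : (EX 1 ∧ EX 2) ∧ CJ ws γ 1 wz ∧ CY ws γ σ 2 wz := xw.c2 inj cz fb.out2 rfl (by decide +kernel)
theorem x3 : EX 3 ∧ CJ ws γ 3 wu := xw.c1 inj cu (by decide +kernel)
theorem x4 : EX 4 := xw.sc (by decide +kernel)
theorem x5 : EX 5 := xw.sc (by decide +kernel)
theorem x6 : EX 6 := xw.sc (by decide +kernel)
theorem x7 : EX 7 := xw.sc (by decide +kernel)
theorem x8 : EX 8 := xw.sc (by decide +kernel)
theorem x9 : EX 9 ∧ CJ ws γ 9 §0 := xw.c1 inj c0 (by decide +kernel)
theorem x10 : EX 10 ∧ ∀ x ∈ KK ws (dX γ σ) 9, ∃ s ∈ (L9.headD (0, [])).2, ∃ y ∈ KK ws (dX γ σ) 10, s.ev (dX γ σ) * y = x :=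
  ex_col xw x9.1 rfl rfl rfl rfl
theorem x11 : EX 11 ∧ CJ ws γ 11 §0 := xw.c1 inj c0 (by decide +kernel)
theorem x12 : EX 12 ∧ ∀ x ∈ KK ws (dX γ σ) 11, ∃ s ∈ (L11.headD (0, [])).2, ∃ y ∈ KK ws (dX γ σ) 12, s.ev (dX γ σ) * y = x :=
  ex_col xw x11.1 rfl rfl rfl rfl
/-- the subgroups used -/
noncomputable def q (k : ℕ) : Bool := memL k [1, 2, 3, 4, 5, 6, 7, 8, 10, 12]
theorem wd : Wd 202 pt ⊤ B E Ls p q (KK ws (dX γ σ)) (dX γ σ) := xw.wd (by
  simp only [List.forall_mem_cons]
  exact ⟨x1.1.1, x1.1.2, x3.1, x4, x5, x6, x7, x8, x10.1, x12.1, nofun⟩)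
theorem C : Cx γ σ ws q fun k => sz (Ls k) := ⟨mo.xw.h0, inj, fb.out2, sg.1, s1, fun _ => wd.card⟩
theorem cd (k n : ℕ) (h : cdB ws q (fun k => sz (Ls k)) k n = true := by decide +kernel) : Nat.card (KK ws γ k) = n := C.card h
theorem hx {φ : Fm} (c : band (uf q φ p) (evC B E Ls φ E) = true := by decide +kernel) : HX φ := wd.holds c
theorem hj {φ : Fm} (c : band (uf (fun k => allP (ws k) (uw n99)) φ n99) (band (uf q φ p) (evC B E Ls φ E)) = true := by decide +kernel) : HJ φ :=
  wd.hj inj c
theorem f1 : HX (rgF 2 (ws 4) wz) := hx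
theorem f2 : HX (rgF 2 (us.map Prod.fst) wz) := hx
theorem f3 : HJ (.and (.and (andM us fun u => .eq u.1 (kw u.2.1 u.2.2)) (cmF (us.map Prod.fst) wz)) (.and (.eq (.pow §0x4232311313114422 10) wz) (ncF §0x23144224442223 §0x11331314423131))) := hq
theorem f4 : HJ (.and (.mem 4 wz) (.and (nfF ws 1 4 wz) (nfF ws 3 5 wu))) := hj
theorem f5 : HJ (.and (caF 5 6 [§0, §0, §0x3114223324, §0x13233224113224, §0x2331422313223324, §0x41333323324411314]) (caF 6 8 [§0, §0, §0x11331314423131, §0x11423331333142, §0x23322442224423, §0x2224131313324224, §0x11142313133113222, §0x111313314241113113])) := hj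
theorem f6 : HX (cvG ws 10 6 §99 [§0, §0x1331322242442] (L9.headD (0, [])).2) := hx
theorem f7 : HX (cvG ws 12 7 wr [] (L11.headD (0, [])).2) := hx
theorem f8 : HX (.and (noF ws 2 6 wz §99) (noF ws 2 7 wz wr)) := hx
theorem f9 : HX (ocF 8 1 §0 [wr] (.nd (.pow §0x11133242322232441 2) (.nd §99 (.nd §0x42324223313231 (.nd (§0x142442242231322 ⊡ §0x4423323323131413) (.nd (§0x11133242322232441 ⊡ §0x142442242231322) (.nd §0 (.lf §0x223331332 1) (.lf §0x322333233 1)) (.nd §0 (.lf §0x313113313 1) (.lf §0x324242422 1))) (.nd §0 (.lf §0x331311414 1) (.lf §0x23333331 1))) (.nd ((.inv §0x142442242231322) ⊡ (.inv §0x4423323323131413)) (.nd (§0x11133242322232441 ⊡ §0x142442242231322) (.nd §0 (.lf §0x1444242242 1) (.lf §0x413132224 1)) (.nd §0 (.lf §0x222333222 1) (.lf §0x333114113 1))) (.nd §0 (.lf §0x1413324444 0) (.lf §0x323141141 0)))) (.nd (.pow §0x4423323323131413 2) (.nd (§0x142442242231322 ⊡ §0x4423323323131413) (.nd §0 (.lf §0x4442422314 0) (.nd §0 (.lf §0x22314224 0) (.nd §0 (.lf §0x41333333222 0)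 (.lf §0x2423314244 0)))) (.nd §0 (.lf §0x423223132 0) (.nd §0 (.lf §0x1413223241 0) (.nd §0 (.lf §0x3223222313 0) (.lf §0x423131133 0))))) (.nd (§0x142442242231322 ⊡ §0x42324223313231) (.nd §0 (.lf §0x223233332 0) (.nd §0 (.lf §0x3331313224 0) (.nd §0 (.lf §0x2233331422 0) (.nd §0 (.lf §0x33244222 0) (.nd §0 (.lf §0x33223241 0) (.nd §0 (.lf §0x3133142331 0) (.nd §0 (.lf §0x313113 0) (.lf §0x22332422 0)))))))) (.nd ((.inv §0x142442242231322) ⊡ §0x42324223313231) (.nd §0 (.lf §0x242242241 0) (.nd §0 (.lf §0x4244233131 0) (.nd §0 (.lf §0x231424441 0) (.nd §0 (.lf §0x1322422422 0) (.nd §0 (.lf §0x231331133 0) (.nd §0 (.lf §0x1314423324 0) (.nd §0 (.lf §0x4414224423 0) (.lf §0x241331133 0)))))))) (.nd §0x42324223313231 (.nd (§0x4423323323131413 ⊡ §0x142442242231322 ⊡ §0x4423323323131413) (.nd §0 (.lf §0x424413144 0) (.lf §0x242231144 0)) (.nd (§0x11133242322232441 ⊡ §0x142442242231322) (.nd §0 (.lf §0x314142 0) (.lf §0x4411 0)) (.nd §0 (.lf §0x14231322 0) (.lf §0x223314114 0)))) (.nd §0x142442242231322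 (.nd §0 (.lf §0x424414242 1) (.lf §0x242232424 1)) (.nd (§0x11133242322232441 ⊡ §0x142442242231322) (.nd §0 (.lf §0x22332413 0) (.lf §0x1333331331 0)) (.nd ((.inv §0x11133242322232441) ⊡ (.inv §0x142442242231322)) (.nd §0 (.lf §0x1333314111 0) (.lf §0x33244424 0)) (.nd §0x241132244223113314 (.nd §0 (.lf §0x414411411 0) (.nd §0 (.lf §0x2313333133 0) (.nd §0 (.lf §0x4133332 0) (.nd §0 (.lf §0x113322223 0) (.nd §0 (.lf §0x33313144 0) (.nd §0 (.lf §0x14114142 0) (.nd §0 (.lf §0x32331424 0) (.lf §0x11131144 0)))))))) (.nd §0x14131424413144 (.nd §0x13114242233233 (.nd §0 (.lf §0x1441323322 0) (.nd §0 (.lf §0x13132313 0) (.nd §0 (.lf §0x2222422224 0) (.lf §0x313132313 0)))) (.nd §0 (.lf §0x44114222 0) (.nd §0 (.lf §0x114441131 0) (.nd §0 (.lf §0x14113113 0) (.lf §0x331141323 0))))) (.nd §0 (.lf §0x3142241141 0) (.nd §0 (.lf §0x311411423 0) (.nd §0 (.lf §0x4113323311 0) (.nd §0 (.lf §0x4113323333 0) (.nd §0 (.lf §0x1324142222 0) (.nd §0 (.lf §0x32231322 0) (.nd §0 (.lf §0x4441331323 0) (.lf §0x224223133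 0)))))))))))))))))) (.nd §99 (.nd (§0x142442242231322 ⊡ §0x4423323323131413) (.nd (.pow §0x4423323323131413 2) (.nd §0 (.lf §0x4222413233 1) (.nd §0 (.lf §0x132242323 1) (.nd §0 (.lf §0x31311322 0) (.lf §0x13133144 0)))) (.nd (§0x11133242322232441 ⊡ §0x142442242231322) (.nd §0 (.lf §0x4222411411 1) (.lf §0x2322413 1)) (.nd §0 (.lf §0x13223331 0) (.lf §0x111132413 0)))) (.nd ((.inv §0x4423323323131413) ⊡ §0x142442242231322 ⊡ §0x4423323323131413) (.nd §0 (.lf §0x4442411 1) (.lf §0x4142322424 1)) (.nd §0x42324223313231 (.nd §0 (.lf §0x244424142 1) (.nd §0 (.lf §0x4114133332 1) (.nd §0 (.lf §0x31441113 0) (.lf §0x111311414 0)))) (.nd §0 (.lf §0x2331424231 0) (.lf §0x3113332 0))))) (.nd ((.inv §0x142442242231322) ⊡ (.inv §0x4423323323131413)) (.nd (.pow §0x4423323323131413 2) (.nd §0 (.lf §0x422444244 1) (.nd §0 (.lf §0x3313133241 1) (.nd §0 (.lf §0x244142424 0) (.lf §0x233331132 0)))) (.nd (§0x11133242322232441 ⊡ §0x142442242231322) (.nd §0 (.lf §0x422324424 0) (.lf §0x411113314 0)) (.nd §0 (.lf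 §0x2333231314 1) (.lf §0x4111413132 1)))) (.nd ((.inv §0x4423323323131413) ⊡ §0x142442242231322 ⊡ §0x4423323323131413) (.nd §0 (.lf §0x444131444 0) (.lf §0x422323322 0)) (.nd §0x2232233313222322 (.nd §0 (.lf §0x2423224223 1) (.nd §0 (.lf §0x133223114 1) (.nd §0 (.lf §0x313132331 0) (.lf §0x244142242 0)))) (.nd §0 (.lf §0x33114423222 1) (.lf §0x2331442231 1)))))))) := hx
theorem oc : Oc γ σ (KK ws (dX γ σ) 8) §0 [wr] := C.oc (m := 86625) netG.card f9
theorem n8 : Nf (fixedSubgroup ((§99).ev (dX γ σ))) (KK ws γ 6) := nf_o inj x9.2 C.h0 x1.2.2 (cv_of x10.2 f6 (by decide +kernel)) f8.1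
theorem n4 : Nf (fixedSubgroup (wr.ev (dX γ σ))) (KK ws γ 7) := nf_o inj x11.2 C.h0 x1.2.2 (cv_of x12.2 f7 (by decide +kernel)) f8.2
theorem rx : Rg (genW γ (us.map Prod.fst) : Set hs) (wz.ev γ) :=
  rg_x C x1.2.2 f2 (.inl (meq f3.2.1 (pow_mem (mem_genW γ (.head _)) _))) fun _ => mem_genW γ
theorem sp : SpF hs :=
  let ⟨_, a, b⟩ := rg_syl (n := 6) (cd 4 64) (rg_x C x1.2.2 f1 (.inl f4.1) fun _ => mem_genW γ)
  spf2 (rs := conj (wu.ev γ) :: [§99, wr].map (W.ev (dX γ σ))) a b (fun _ => (nf_in x1.2.1 f4.2.1).no (n := 6) (cd 4 64)) (r3_of f3.2.2) out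
    (cl_of inj cls fun _ a b => let ⟨_, m, e⟩ := oc.cls a b; ⟨_, List.mem_map_of_mem m, e⟩) (cmF_le f3.1.2) (pf_ov C.h0 f3.1.1) rx
    (fcs ((nf_in x3.2 f4.2.2).g2 (g2_6.congr (alt_of (n := 1) f5.1 (cd 5 360)).some)) (List.forall_mem_map.2
      (fcs (n8.g2 (g2_8.congr (alt_of (n := 3) f5.2 (cd 6 20160)).some)) (fcs (fun _ c => (n4.no (n := 4) (cd 7 16) c).elim) nofun))))

end Ha

theorem sp_HS {Y : Type*} [Group Y] [Finite Y] (h : Spor.IsoHS Y) : SpF Y := Ha.sp.congr (Leech.hsEquiv.trans h.some.symm)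

end Cfsg.Lib.QS
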