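import Cfsg.Agent.Lib.QS.Lh2
import Cfsg.Agent.Lib.FGS.PslAut
import Cfsg.Agent.Lib.FGS.PslAut2
import Cfsg.Agent.S2602

/-!
# QS/L2 (S1849, stub): `LieF` for `L₂(q)`, `q = 2ⁿ ≥ 8`.
`U = unipL x ≅ (F, +)` elementary abelian; `FGS.inner_of_fix_unipL` (an automorphism that fixes `U` pointwise is conjugation by an element of `U`),
`FGS.aut_decomp`, `QE/Thin.lean` (`thin_even`), `SL2s/M1`.  `z1`: `α` acts on `U` as `t ↦ a θ(t)`; it fixes at least half of `U`, the fixed points of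
a non-trivial semilinear map number at most `√q < q / 2`.  `z2` trivial, `z3` by `inner_of_fix_unipL`, `z4` void (`z4_of_cyc`, `S2602`: `Out` cyclic).
-/

set_option autoImplicit false

namespace Cfsg.Lib.QS

open Subgroup Cfsg.Lib.BG Cfsg.Lib.Comp
open scoped Cfsg.Lib.Transfer commutatorElement MatrixGroups

open Cfsg.Lib.PSL2 in
theorem lie_L2 {F : Type} [Field F] [Fintype F] [CharP F 2] (h : 8 ≤ Fintype.card F) : LieF PSL(2, F) := by
  have c : ∀ x y : unipL (inf : P1 F), x * y = y * x := fun x y => Subtype.ext (toP_injective (by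
    simpa using (commute_of_mem_unip x.2 y.2).eq))
  have s : ∀ x : unipL (inf : P1 F), x * x = 1 := fun x => Subtype.ext (toP_injective (by
    simpa [sq] using pow_char_of_mem_unip 2 x.2))
  have i : ∀ α : MulAut PSL(2, F), (∀ x : unipL (inf : P1 F), α x = x) → ∃ u : unipL (inf : P1 F), α = MulAut.conj (u : PSL(2, F)) := fun α k =>
    let ⟨g, hg, e⟩ := FGS.inner_of_fix_unipL α fun u hu => k ⟨u, hu⟩; ⟨⟨g, hg⟩, e⟩
  refine lieF_of (unipL inf).subtype (subtype_injective _) (by rw [range_subtype]; exact Syl.of_sylow_top (sylowL 2 inf))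
    (fun α z _ _ _ k => i α fun x => ?_) (fun y _ _ => s y) (fun α _ _ k => ?_) ?_
  · obtain ⟨y, σ, rfl, -⟩ := FGS.aut_decomp α
    have u : ∀ b : F, ∃ x : unipL (inf : P1 F), toP x.1 = aff 1 b := fun b =>
      ⟨⟨toL (upper b), mem_unipL.2 (by rw [toP_toL_upper]; exact aff_mem_unip_inf.2 rfl)⟩, toP_toL_upper b⟩
    obtain ⟨d, hd⟩ := mem_unip_inf.1 z.2
    have k' : ∀ b, y * aff 1 (σ b) * y⁻¹ = aff 1 b ∨ y * aff 1 (σ b) * y⁻¹ = aff 1 (b + d) := fun b => by
      obtain ⟨x, e⟩ := u b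
      have := (k x).imp (congrArg toP) (congrArg toP)
      rw [FGS.toP_aut] at this
      simpa [e, hd, pglMap_aff, aff_mul, add_comm] using this
    obtain ⟨a, r, rfl⟩ := (smul_inf_eq_inf_iff y).1 (eq_of_mem_unip (g := y * aff 1 (σ 1) * y⁻¹)
      (by rcases k' 1 with e | e <;> rw [e] <;> exact aff_mem_unip_inf.2 rfl) (by simp [aff_eq_one_iff]) (by simp [mul_smul]))
    simp only [aff_conj_aff_one, aff_inj, true_and] at k'
    obtain ⟨b, hb⟩ := mem_unip_inf.1 x.2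
    refine toP_injective ?_
    rw [FGS.toP_aut, hb, pglMap_aff, map_one, aff_conj_aff_one]
    exact congrArg _ (semi_fix (by omega) σ k' b)
  · obtain ⟨u, rfl⟩ := i α fun x => k x (c · x) (s x)
    exact mul_mem ⟨_, rfl⟩ ⟨_, rfl⟩
  · obtain ⟨n, -, e⟩ := FiniteField.card F 2
    have : NeZero (n : ℕ) := ⟨n.ne_zero⟩
    obtain ⟨φ, -, -, k⟩ := Cfsg.Agent.S2602.result n.pos e (by omega)
    refine z4_of_hom φ (k ▸ Odd.of_dvd_nat ?_ (Nat.gcd_dvd_right _ _))
    exact Nat.Even.sub_odd Nat.one_le_two_pow (even_two.pow_of_ne_zero n.ne_zero) odd_one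

end Cfsg.Lib.QS
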