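import Cfsg.Agent.Lib.QS.Sa
import Cfsg.Agent.Lib.SK.WrM
import Cfsg.Prelude.Def_Spor_Mathieu

/-! # QS/M12 (S1849): `SpF` for `M₁₂`, with the alternative `So` (generated data) -/

set_option autoImplicit false
set_option maxRecDepth 100000
set_option Elab.async false

namespace Cfsg.Lib.QS

namespace Ma

open Cfsg.Lib.Calc Cfsg.Lib.Grp Cfsg.Lib.Mathieu Cfsg.Lib.T2 Cfsg.Lib.SG Cfsg.Lib.SH Sa Subgroup
open Cfsg.Lib.SH.M12 (γ σ wu B F E p pt xw mo inj fb sg s1)
open Cfsg.Lib.Golay (memL)

/-- a chain -/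
def L6 : Ch := [(0, [§0, §0x123131231231313123123131323232, §0x123123123123123, .inv §0x123131231231313123123131323232, .pow §0x123131231231313123123131323232 2, §0x123123123123123 ⊡ §0x123131231231313123123131323232, §0x1312313131323231313132 ⊡ §0x123123123123123, (.inv §0x123131231231313123123131323232) ⊡ §0x123123123123123]), (1, [§0, §0x1312313131323231313132, §0x1323123231231323232313, §0x1323123231231323232313 ⊡ §0x1312313131323231313132])]
/-- a chain -/
def L7 : Ch := [(7, [§0, §0x31313123123131232312323131, .inv §0x31313123123131232312323131, §0x23123123131232312312313232 ⊡ §0x31313123123131232312323131, §0x123123131231231231231312312 ⊡ §0x31313123123131232312323131, (.inv §0x23123123131232312312313232) ⊡ §0x31313123123131232312323131]), (11, [§0, §0x23123123131232312312313232, .inv §0x23123123131232312312313232, .pow §0x23123123131232312312313232 2, .pow (.inv §0x23123123131232312312313232) 2]), (0, [§0, §0x123123131231231231231312312])]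
/-- a chain -/
def L8 : Ch := [(7, [§0, §0x123123, .inv §0x123123, §0x3123123123131231231231232 ⊡ §0x123123, .pow §0x123123 2, (.inv §0x3123123123131231231231232) ⊡ §0x123123]), (10, [§0, §0x3123123123131231231231232, .inv §0x3123123123131231231231232, .pow §0x3123123123131231231231232 2, .pow (.inv §0x3123123123131231231231232) 2]), (1, [§0, §0x1231312312312312313123123123])]
/-- the chains: 1 `Aut`, 2 Sylow, 3 `C(z)`, 4 `C(u)`, 5 `C_Aut(σ)`, 6 `O₂(C(z))`, 7 and 8 `A₅` -/
def Ls (k : ℕ) : Ch := [[], M12.Ls 1, M12.Ls 3, M12.Ls 6, M12.Ls 7, M12.Ls 9, L6, L7, L8].getD k []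
/-- the generators -/
def Ss (k : ℕ) : List (List W) := [[], M12.Ss 1, M12.Ss 3, M12.Ss 6, M12.Ss 7, M12.Ss 9, [[§0x123131231231313123123131323232, §0x123123123123123], [§0x1312313131323231313132, §0x1323123231231323232313]], [[§0x31313123123131232312323131], [§0x23123123131232312312313232], [§0x123123131231231231231312312]], [[§0x123123], [§0x3123123123131231231231232], [§0x1231312312312312313123123123]]].getD k []
/-- the generators of the subgroups -/
def ws : ℕ → List W := wsF Ls Ss
/-- exact chains -/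
abbrev EX (k : ℕ) : Prop := Ex 50 pt E (dX γ σ) Ls Ss k
theorem x6 : EX 6 := xw.sc (by decide +kernel)
theorem x7 : EX 7 := xw.sc (by decide +kernel)
theorem x8 : EX 8 := xw.sc (by decide +kernel)
/-- the subgroups used -/
noncomputable def q (k : ℕ) : Bool := memL k [1, 2, 3, 4, 5, 6, 7, 8]
theorem wd : Wd 50 pt ⊤ B E Ls p q (KK ws (dX γ σ)) (dX γ σ) := xw.wd (by
  simp only [List.forall_mem_cons]
  exact ⟨M12.x1, M12.x3, M12.x6, M12.x7, M12.x9, x6, x7, x8, nofun⟩)
theorem C : Cx γ σ ws q fun k => sz (Ls k) := ⟨mo.xw.h0, inj, fb.out2, sg.1, s1, fun _ => wd.card⟩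
theorem cd (k n : ℕ) (h : cdB ws q (fun k => sz (Ls k)) k n = true := by decide +kernel) : Nat.card (KK ws γ k) = n := C.card h
/-- holds in the group -/
abbrev HJ (φ : Fm) : Prop := φ.holds (KK ws γ) γ
/-- holds in the automorphism group -/
abbrev HX (φ : Fm) : Prop := φ.holds (KK ws (dX γ σ)) (dX γ σ)
theorem hq {φ : Fm} (c : Xw.qB B (fun c => F (dw c)) (fun _ => true) φ = true := by decide +kernel) : HJ φ := mo.xw.qf c
theorem hx {φ : Fm} (c : band (uf q φ p) (evC B E Ls φ E) = true := by decide +kernel) : HX φ := wd.holds c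
theorem hj {φ : Fm} (c : band (uf (fun k => allP (ws k) (uw n99)) φ n99) (band (uf q φ p) (evC B E Ls φ E)) = true := by decide +kernel) : HJ φ :=
  wd.hj inj c
theorem f1 : HX (rgF 1 (ws 2) §3) := hx
theorem f2 : HX (rgF 1 [§0x131313123232323, §0x12323131312323231313123, §0x231232313131231232313131] §3) := hx
theorem f3 : HJ (andM [§0x131313123232323, §0x12323131312323231313123, §0x231232313131231232313131] fun c => .and (tr c §3 §3) (.one (.pow c 3))) := hq
theorem f4 : HJ (ncF §0x232312313131323 §0x123131313232323) := hq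
theorem f5 : HJ (nfF ws 3 6 §3) := hj
theorem f6 : HJ (nfF ws 4 7 wu) := hj
theorem f7 : HX (nfF ws 5 8 §99) := hx
theorem f8 : HJ (caF 7 5 [§0, §0, §0x132312313232312313123231, §0x1231232323231313123123131, §0x31313123123131232312323131]) := hj
theorem f9 : HJ (caF 8 5 [§0, §0, §0x3131231231231231, §0x1231312312312312323, §0x1312312312312323123]) := hj
theorem cy : CY ws γ σ 1 §0 := M12.cy §0
theorem jz : CJ ws γ 3 §3 := M12.jz
theorem ju : CJ ws γ 4 wu := M12.ju
theorem js : Cn (KK ws (dX γ σ) 5) ((§99).ev (dX γ σ)) := fun _ => M12.m9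
theorem sp : SpF Spor.M12 :=
  spf1 (syl_of (n := 6) (m := 1485) (cd 2 64) card_M12) (rg_x C cy f1 (.inr C.h0) fun _ => mem_genW γ)
    (fun _ => (nf_in jz f5).no (n := 5) (cd 6 32)) (r3_of f4) Agent.S2061.result
    (cl_of (rs := [σ]) inj M12.cls fun α a b => ⟨_, .head _, M12.one_cls α a b⟩)
    (rg_x C cy f2 (.inr C.h0) fun c m => ⟨mc1.2 (andM_iff.1 f3 c m).1,
      Odd.of_dvd_nat (by decide) (orderOf_dvd_of_pow_eq_one (andM_iff.1 f3 c m).2)⟩)
    (fcs ((nf_in ju f6).g1 (g1_5.congr (alt_of (n := 0) f8 (cd 7 60)).some))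
      (fcs ((nf_out inj js f7).g1 (g1_5.congr (alt_of (n := 0) f9 (cd 8 60)).some)) nofun))

end Ma

theorem sp_M12 {Y : Type*} [Group Y] [Finite Y] (h : Spor.IsoM12 Y) : SpF Y := Ma.sp.congr h.some.symm

end Cfsg.Lib.QS
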