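import Cfsg.Agent.Lib.QS.Def
import Cfsg.Prelude.Def_Quasithin
import Cfsg.Agent.Lib.FGS.PslAut2
import Cfsg.Agent.Lib.PSL2.Four
import Cfsg.Agent.Lib.PSL2.Proper
import Cfsg.Agent.Lib.Char.Burnside
import Cfsg.Agent.Lib.Inv.Count
import Cfsg.Agent.Lib.Chev.Out
import Cfsg.Agent.S0810
import Cfsg.Agent.S0254
import Cfsg.Agent.S0255

/-!
# QS/NpB (S1849): small groups that are never proper pumpups.
The fixed subgroup of `σ ≠ 1` is proper, and a subgroup with a component is not solvable (`Cmp.not_sol`).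
* `L₂(4) ≅ A₅`, `L₃(2)`, `L₃(3)`: all proper subgroups are solvable (minimal simple groups; orders: a non-solvable group has order `≥ 60`
  divisible by 4 and three primes, a subgroup of index `n` gives `|Y| ∣ n!`), or direct: the fixed subgroups in `L₃(3)` have orders 48, 24.
* `A₆`: a proper non-solvable subgroup has order 60; an automorphism that fixes it pointwise is trivial (six conjugates; or `Aut(A₆)` model).
* `L₂(p)`, `p ≥ 5` prime: `Aut = PGL₂(p)` (`FGS.aut_decomp`), centralizers of involutions are dihedral (`QE.chP_L2`, `GW/AutInv.psl_outer`).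
-/

set_option autoImplicit false

namespace Cfsg.Lib.QS

open Subgroup Cfsg.Lib.BG Cfsg.Lib.Comp
open scoped Cfsg.Lib.Transfer commutatorElement MatrixGroups

theorem np_of_sol {Y : Type*} [Group Y] [Finite Y]
    (h : ∀ σ : MulAut Y, σ * σ = 1 → σ ≠ 1 → Group.IsSolvable (fixedSubgroup σ)) : NoPu Y :=
  fun σ _ k => k.cmp.not_sol (h σ k.sq k.ne) k.cmp.le

theorem np_of_min {Y : Type*} [Group Y] [Finite Y] (h : ∀ H : Subgroup Y, H ≠ ⊤ → Group.IsSolvable H) : NoPu Y :=
  np_of_sol fun σ _ k => h _ fun e => k (MulEquiv.ext fun x => mem_fix.1 (e.ge (mem_top x)))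

theorem sol_of_dvd {H : Type*} [Group H] [Finite H] {p q a b : ℕ} (hp : p.Prime) (hq : q.Prime)
    (h : Nat.card H ∣ p ^ a * q ^ b) : Group.IsSolvable H :=
  Char.isSolvable_of_forall_prime_dvd H p q fun r hr k => ((Nat.Prime.dvd_mul hr).1 (k.trans h)).imp
    (fun e => (Nat.prime_dvd_prime_iff_eq hr hp).1 (hr.dvd_of_dvd_pow e))
    fun e => (Nat.prime_dvd_prime_iff_eq hr hq).1 (hr.dvd_of_dvd_pow e)

theorem min_5616 {Y : Type*} [Group Y] [Finite Y] [IsSimpleGroup Y] (c : Nat.card Y = 5616) (H : Subgroup Y) (hH : H ≠ ⊤) :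
    Group.IsSolvable H := by
  haveI : Fact (Nat.Prime 13) := ⟨by norm_num⟩
  have e := H.card_mul_index
  by_cases d : 13 ∣ Nat.card H
  · have i : 13 ≤ H.index := (Nat.Prime.dvd_factorial Fact.out).1
      ((show 13 ∣ Nat.card Y by rw [c]; norm_num).trans (Inv.card_dvd_factorial_index hH))
    obtain ⟨m, hm⟩ := d
    have e' : m * H.index = 432 := by rw [hm, c, mul_assoc] at e; omega
    have m0 : m ≤ 33 := by nlinarith
    have md : m ∣ 432 := Dvd.intro _ e'
    by_cases k : m = 27
    · exact sol_of_dvd (p := 13) (q := 3) (a := 1) (b := 3) Fact.out Nat.prime_three (by rw [hm, k]; norm_num)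
    obtain ⟨P⟩ : Nonempty (Sylow 13 H) := inferInstance
    have n13 : ¬ 13 ∣ m := fun k => absurd (k.trans md) (by norm_num)
    have pi : (P : Subgroup H).index ∣ m :=
      (Nat.Coprime.dvd_of_dvd_mul_left ((Nat.Prime.coprime_iff_not_dvd Fact.out).2 P.not_dvd_index).symm
        (hm ▸ (P : Subgroup H).index_dvd_card))
    have n1 := card_sylow_modEq_one 13 H
    have n2 := P.card_dvd_index.trans pi
    have n3 : Nat.card (Sylow 13 H) = 1 := by
      have := Nat.le_of_dvd (Nat.pos_of_ne_zero (by rintro rfl; simp at e')) n2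
      have n4 := n2.trans md
      unfold Nat.ModEq at n1
      rcases (by omega : Nat.card (Sylow 13 H) = 1 ∨ Nat.card (Sylow 13 H) = 14 ∨ Nat.card (Sylow 13 H) = 27) with r | r | r
      · exact r
      · rw [r] at n4; exact absurd n4 (by norm_num)
      · rw [r] at n2; omega
    haveI : Subsingleton (Sylow 13 H) := (Nat.card_eq_one_iff_unique.1 n3).1
    haveI := P.normal_of_subsingleton
    exact (Group.isSolvable_iff_subgroup_quotient (P : Subgroup H)).2
      ⟨haveI := P.isPGroup'.isNilpotent; inferInstance,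
        sol_of_dvd (p := 2) (q := 3) (a := 4) (b := 3) Nat.prime_two Nat.prime_three (pi.trans md)⟩
  · refine sol_of_dvd (p := 2) (q := 3) (a := 4) (b := 3) Nat.prime_two Nat.prime_three
      (Nat.Coprime.dvd_of_dvd_mul_left ((Nat.Prime.coprime_iff_not_dvd Fact.out).2 d).symm ?_)
    exact (c ▸ H.card_subgroup_dvd_card :)

theorem sol_pgl {F : Type} [Field F] [Finite F] (o : Odd (Nat.card F)) {y : PGL(2, F)} (h : GW.pglAut y * GW.pglAut y = 1)
    (k : GW.pglAut y ≠ 1) : Group.IsSolvable (fixedSubgroup (GW.pglAut y)) := by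
  have y2 : y * y = 1 := GW.pglAut_injective (by rw [map_mul, h, map_one])
  have y1 : y ≠ 1 := fun e => k (by rw [e, map_one])
  obtain ⟨a, b, m, h1, h2⟩ := PSL2.exists_mem_torus_of_mul_self (AlgebraicClosure F) o y1 y2
  refine PSL2.isSolvable_of_le_dihL h1.1 fun u hu => ?_
  have r : PSL2.toP u ∈ centralizer {y} := mem_centralizer_singleton_iff.2 (GW.pglAut_injective (by
    rw [map_mul, map_mul, GW.pglAut_toP]
    ext z
    simp [mem_fix.1 hu]))
  rwa [PSL2.centralizer_of_involution h1.1 h2 y1 y2] at r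

variable {F : Type} [Field F] [Fintype F]

theorem np_L24 (hF : Fintype.card F = 4) : NoPu PSL(2, F) := by
  exact np_of_min ((Agent.S0810.result hF).2 (.inl ⟨2, Nat.prime_two, rfl⟩)).2.2

theorem np_L32 (hF : Fintype.card F = 2) : NoPu PSL(3, F) := by
  haveI : Fact (Nat.Prime 7) := ⟨by norm_num⟩
  obtain ⟨e⟩ := Agent.S0255.result (F := ZMod 7) (ZMod.card 7) hF
  exact (np_of_min ((Agent.S0810.result (ZMod.card 7)).2 (.inr (.inr (.inl ⟨Fact.out, by norm_num, .inl rfl⟩)))).2.2).congr e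

theorem np_L33 (hF : Fintype.card F = 3) : NoPu PSL(3, F) := by
  haveI := Agent.S0249.result (F := F) 3 le_rfl
  have := Agent.S0243.result hF 3 (by norm_num)
  simp [Fin.prod_univ_succ] at this
  exact np_of_min (min_5616 (by omega))

theorem np_A6 : NoPu (alternatingGroup (Fin 6)) := by
  haveI : Fact (Nat.Prime 3) := ⟨Nat.prime_three⟩
  haveI : Fact (Nat.Prime 5) := ⟨Nat.prime_five⟩
  haveI := Fintype.ofFinite (GaloisField 3 2)
  have c : Nat.card (GaloisField 3 2) = 3 ^ 2 := GaloisField.card 3 2 two_ne_zero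
  obtain ⟨e⟩ := Agent.S0254.result (F := GaloisField 3 2) (Fintype.card_eq_nat_card.trans c)
  refine (np_of_sol fun σ h k => ?_).congr e
  obtain ⟨y, τ, rfl, -⟩ := FGS.aut_decomp σ
  by_cases t : τ = 1
  · subst t
    rw [map_one, mul_one] at h k ⊢
    exact sol_pgl (by rw [c]; decide) h k
  have c' : Nat.card PSL(2, GaloisField 3 2) = 360 := by
    rw [Nat.card_congr e.toEquiv, nat_card_alternatingGroup]; simp [Nat.factorial]
  refine sol_of_dvd (p := 2) (q := 3) (a := 3) (b := 2) Nat.prime_two Nat.prime_three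
    (Nat.Coprime.dvd_of_dvd_mul_left ((Nat.Prime.coprime_iff_not_dvd Nat.prime_five).2 fun d => ?_).symm
      (c' ▸ card_subgroup_dvd_card _ :))
  obtain ⟨u, hu⟩ := exists_prime_orderOf_dvd_card' 5 d
  have u1 : PSL2.toP (u : PSL(2, GaloisField 3 2)) ≠ 1 := fun r => by
    rw [show u = 1 from Subtype.ext (PSL2.toP_injective (r.trans (map_one _).symm)), orderOf_one] at hu
    omega
  have r := (PSL2.pow_five_eq_one_iff_tau u1).1 (by rw [← map_pow, ← coe_pow, ← hu, pow_orderOf_eq_one, coe_one, map_one])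
  have s := FGS.tau_aut y τ u
  rw [mem_fix.1 u.2] at s
  generalize PSL2.tau (PSL2.toP (u : PSL(2, GaloisField 3 2))) = x at r s
  have h3 : (3 : GaloisField 3 2) = 0 := CharP.cast_eq_zero _ 3
  have key : ∀ z : GaloisField 3 2, z ^ 2 - 3 * z + 1 = 0 → z ^ 3 ≠ z := fun z a b =>
    one_ne_zero (α := GaloisField 3 2) (by
      have z0 : z = 0 := by linear_combination b - z * a + (z - z ^ 2) * h3
      rw [z0] at a; simpa using a)
  have f1 : frobeniusEquiv (GaloisField 3 2) 3 ≠ 1 := fun f => key x r (congrArg (· x) f)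
  obtain ⟨w, -, hw⟩ := (Nat.card_eq_two_iff' (1 : GaloisField 3 2 ≃+* GaloisField 3 2)).1 (Chev.card_ringAut c)
  rw [(hw τ t).trans (hw _ f1).symm] at s
  exact key x r s.symm

theorem np_L2p (hF : (Fintype.card F).Prime) (h5 : 5 ≤ Fintype.card F) : NoPu PSL(2, F) := by
  refine np_of_sol fun σ h k => ?_
  rw [← Nat.card_eq_fintype_card] at hF h5
  haveI := Fact.mk hF
  obtain ⟨y, τ, rfl, -⟩ := FGS.aut_decomp σ
  obtain ⟨e⟩ := Linear.nonempty_ringAut_equiv_zmod (show Fintype.card F = Nat.card F ^ 1 by simp)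
  obtain rfl : τ = 1 := e.injective (Subsingleton.elim _ _)
  rw [map_one, mul_one] at h k ⊢
  exact sol_pgl (hF.odd_of_ne_two (by omega)) h k

end Cfsg.Lib.QS
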