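import Cfsg.Agent.Lib.QS.NpA
import Cfsg.Agent.Lib.J4T.GlobEx
import Cfsg.Agent.Lib.Mathieu.Classes
import Cfsg.Agent.Lib.Mathieu.Aut2
import Cfsg.Agent.Lib.PSL2.SmallIso
import Cfsg.Agent.S0904
import Cfsg.Agent.S3331
import Cfsg.Agent.S2060
import Cfsg.Agent.S2062
import Cfsg.Agent.S2063
import Cfsg.Agent.S2064
import Cfsg.Agent.S2068

/-!
# QS/NpC (S1849): sporadic groups that are never proper pumpups.
`M₁₁, M₂₃, M₂₄, J₄`: `Out = 1` (`S2060, S2063, S2064, S2068`), `np_inn`; involution centralizers have no component: `QE.chP_J4`, the `KI/Sp*`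
files (characteristic 2 centralizers), or class lists as in `QE/BigM.lean` (`bp_of_classes`): a component `M` of `C = C(x)` gives an element of odd
prime order with a large centralizer in `C`, since `C / (M C_C(M))` embeds in `Out`.  `M₂₂`: `|Out| = 2` (`S2062`), `Aut = M₂₂:2 ≤ M₂₄` (duad
stabilizer, `OutS/*`, `Mathieu/*`); the outer involutions have `C = 2³:L₃(2)` (order 1344, no component: an element of order 7 has
centralizer of order 7 in `M₂₂`) and `2⁴:(5:4)` (order 320, solvable).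
-/

set_option autoImplicit false

namespace Cfsg.Lib.QS

open Subgroup Cfsg.Lib.BG Cfsg.Lib.Comp
open scoped Cfsg.Lib.Transfer commutatorElement MatrixGroups

variable {Y : Type*} [Group Y] [Finite Y]

/-- a simple group of order `2ᵇ · r · 3` has order 60 or 168 -/
theorem card_simple3 [IsSimpleGroup Y] {b r : ℕ} (hr : r.Prime) (h2 : r ≠ 2) (h3 : r ≠ 3) (h : Nat.card Y = 2 ^ b * r * 3)
    (hs : ¬ Group.IsSolvable Y) : Nat.card Y = 60 ∨ Nat.card Y = 168 := by
  have := Fact.mk Nat.prime_three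
  have := Fact.mk (by decide : Nat.Prime 7)
  obtain ⟨P⟩ : Nonempty (Sylow 3 Y) := inferInstance
  have h1 : ¬ 3 ∣ 2 ^ b * r := fun e => (Nat.prime_three.dvd_mul.1 e).elim
    (fun e => absurd (Nat.prime_three.dvd_of_dvd_pow e) (by decide))
    fun e => h3 ((Nat.prime_dvd_prime_iff_eq Nat.prime_three hr).1 e).symm
  have hP : Nat.card P = 3 := (Small.card_sylow_eq 3 P (k := 1) (by rw [h]; ring) h1).1
  have hC := Cfsg.Agent.S0904.result 2 r 3 b 1 Nat.prime_two hr h2.symm (by decide) h3 (by rw [h, pow_one]) P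
  have e0 := Nat.card_congr (QuotientGroup.quotientBot (G := Y)).toEquiv
  have hr' : r ∣ Nat.card Y := h ▸ (dvd_mul_left _ _).mul_right _
  have h5 := hr.two_le
  rcases Cfsg.Agent.S3331.result (P : Subgroup Y) hP hC with ⟨N, hN, -, h1, h4⟩ | ⟨N, hN, h1, -, ⟨e⟩⟩ | ⟨⟨e⟩⟩
  · exfalso
    rcases hN.eq_bot_or_eq_top with rfl | rfl
    · have : r ∣ 6 := by
        rcases h4 with h4 | ⟨⟨e⟩⟩
        · exact (hr'.trans (e0.symm.trans h4).dvd).trans (by decide)
        · rw [← e0, Nat.card_congr e.toEquiv, Nat.card_perm] at hr'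
          simpa [Nat.factorial] using hr'
      have := Nat.le_of_dvd (by decide) this
      interval_cases r <;> simp_all (config := { decide := true })
    · rw [card_top, h] at h1
      exact absurd (Nat.eq_one_of_dvd_coprimes h1 (dvd_mul_left _ _) dvd_rfl) (by decide)
  · rcases hN.eq_bot_or_eq_top with rfl | rfl
    · left
      rw [← e0, Nat.card_congr e.toEquiv, nat_card_alternatingGroup]
      simp [Nat.factorial]
    · exact absurd (Group.isSolvable_of_comm fun a b => congrArg Subtype.val (h1.1.1 ⟨a, mem_top a⟩ ⟨b, mem_top b⟩)) hs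
  · exact .inr ((Nat.card_congr e.toEquiv).trans (PSL2.card_psl_of_eq (Nat.card_zmod 7) (by norm_num)))

/-- a group of order dividing `2ᵃ · r · 3` with a component has an element of order `r` with a large centralizer -/
theorem cmp_bound {M H : Subgroup Y} (h : Cmp M H) {a r : ℕ} (hr : r.Prime) (h2 : r ≠ 2) (h3 : r ≠ 3)
    (hH : Nat.card H ∣ 2 ^ a * (r * 3)) :
    ∃ y : Y, orderOf y = r ∧ ∃ s, (s = 60 ∨ s = 168) ∧ s ∣ Nat.card H ∧ Nat.card H ≤ s * Nat.card 𝐂[y] := by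
  have := Fact.mk hr
  have := h.qs.2
  have hs : ¬ Group.IsSolvable (M ⧸ center M) := fun k => h.not_sol
    (haveI : Group.IsSolvable (center M) := Group.isSolvable_of_comm fun a b => Subtype.ext (mem_center_iff.1 b.2 a)
    Group.isSolvable_of_ker_le_range (center M).subtype (QuotientGroup.mk' (center M)) (by simp)) le_rfl
  have d0 : Nat.card (center M) * Nat.card (M ⧸ center M) = Nat.card M := (center M).card_mul_index
  have d1 : Nat.card (M ⧸ center M) ∣ Nat.card H := (Dvd.intro_left _ d0).trans (card_dvd_of_le h.le)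
  have pr : ∀ q : ℕ, q.Prime → q ∣ 2 ^ a * (r * 3) → q = 2 ∨ q = r ∨ q = 3 := fun q hq e =>
    (hq.dvd_mul.1 e).imp (fun e => (Nat.prime_dvd_prime_iff_eq hq Nat.prime_two).1 (hq.dvd_of_dvd_pow e)) fun e =>
      (hq.dvd_mul.1 e).imp (Nat.prime_dvd_prime_iff_eq hq hr).1 (Nat.prime_dvd_prime_iff_eq hq Nat.prime_three).1
  have d2 : r ∣ Nat.card (M ⧸ center M) := by
    obtain ⟨q, a1, a2, a3, a4⟩ := KI.nso_of_not_sol hs 2 3
    rcases pr q a1 (a2.trans (d1.trans hH)) with e | e | e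
    exacts [absurd e a3, e ▸ a2, absurd e a4]
  have d3 : 3 ∣ Nat.card (M ⧸ center M) := by
    obtain ⟨q, a1, a2, a3, a4⟩ := KI.nso_of_not_sol hs 2 r
    rcases pr q a1 (a2.trans (d1.trans hH)) with e | e | e
    exacts [absurd e a3, absurd e a4, e ▸ a2]
  obtain ⟨m, hm⟩ := ((Nat.coprime_primes hr Nat.prime_three).2 h3).mul_dvd_of_dvd_of_dvd d2 d3
  obtain ⟨b, -, rfl⟩ := (Nat.dvd_prime_pow Nat.prime_two).1
    (Nat.dvd_of_mul_dvd_mul_left (Nat.mul_pos hr.pos three_pos) (mul_comm (2 ^ a) _ ▸ hm ▸ d1.trans hH))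
  have nd : ¬ r * r ∣ Nat.card H := fun e => by
    have := Nat.dvd_of_mul_dvd_mul_left hr.pos (e.trans (hH.trans (dvd_of_eq (mul_left_comm _ _ _))))
    rcases hr.dvd_mul.1 this with e | e
    exacts [h2 ((Nat.prime_dvd_prime_iff_eq hr Nat.prime_two).1 (hr.dvd_of_dvd_pow e)),
      h3 ((Nat.prime_dvd_prime_iff_eq hr Nat.prime_three).1 e)]
  have nz : ∀ z ∈ center M, z ^ r = 1 → z = 1 := fun z hz e => by
    by_contra z1
    have := orderOf_dvd_natCard (⟨z, hz⟩ : center M)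
    rw [orderOf_mk, orderOf_eq_prime e z1] at this
    exact nd ((d0 ▸ mul_dvd_mul this d2).trans (card_dvd_of_le h.le))
  obtain ⟨y, hy⟩ := exists_prime_orderOf_dvd_card' r (d2.trans (Dvd.intro_left _ d0))
  have oy : orderOf (y : Y) = r := (orderOf_coe y).trans hy
  have yc : (y : Y) ∉ 𝐂(M) := fun e => hr.one_lt.ne' (by
    rw [← hy, nz y (mem_center_iff.2 fun g => Subtype.ext (mem_cent.1 e g g.2)) (hy ▸ pow_orderOf_eq_one y), orderOf_one])
  have oc : ∀ g : Y, orderOf (g * y * g⁻¹) = r := fun g => ((MulAut.conj g).orderOf_eq y).trans oy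
  have nm : ∀ g ∈ H, g * y * g⁻¹ ∈ M := fun g hg => (mem_normalizer_iff.1 (h.norm_of_not_cent hg fun e => by
    have m : g * y * g⁻¹ ∈ 𝐂(M) := e ⟨y, y.2, rfl⟩
    have := (KI.syl_zpowers (mul_mem (mul_mem hg (h.le y.2)) (inv_mem hg)) (oc g) nd).ge_of_norm_p'
      (zpowers_le.2 (h.le y.2)) (.of_card (n := 1) (by rw [Nat.card_zpowers, oy, pow_one]))
      (zpowers_le.2 (centralizer_le_normalizer _ ((cent_zpowers _).ge (mem_cent1.2 (mem_cent.1 m _ y.2)))))
    exact yc (zpowers_le.2 m (this (mem_zpowers _)))) _).1 y.2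
  refine ⟨y, oy, _, card_simple3 (b := b) hr h2 h3 (hm.trans (by ring)) hs, d1, ?_⟩
  rw [← Grp.ncard_cl_mul H y]
  refine Nat.mul_le_mul ?_ (card_le_of_le inf_le_right)
  have mm : ∀ x : Grp.cl H y, (x : Y) ∈ M ∧ (x : Y) ^ r = 1 := by
    rintro ⟨_, g, hg, rfl⟩
    exact ⟨nm g hg, oc g ▸ pow_orderOf_eq_one _⟩
  refine Nat.card_le_card_of_injective (fun x : Grp.cl H y => ((⟨x, (mm x).1⟩ : M) : M ⧸ center M)) fun x x' e => ?_
  have e1 := QuotientGroup.eq.1 e
  have e2 : (⟨x, (mm x).1⟩ : M) ^ r = 1 := Subtype.ext (mm x).2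
  have e3 : (⟨x', (mm x').1⟩ : M) ^ r = 1 := Subtype.ext (mm x').2
  have e4 := nz _ e1 (by
    rwa [← mul_inv_cancel_left (⟨x, (mm x).1⟩ : M) ⟨x', _⟩, (Commute.mul_pow (mem_center_iff.1 e1 _)), e2, one_mul] at e3)
  exact Subtype.ext (congrArg (Subtype.val : M → Y) (inv_mul_eq_one.1 e4))

theorem no_cmp_card {H : Subgroup Y} {a r c : ℕ} (hr : r = 5 ∨ r = 7) (hH : Nat.card H ∣ 2 ^ a * (r * 3))
    (hc : ∀ y : Y, orderOf y = r → Nat.card 𝐂[y] = c)
    (k : ∀ s, s = 60 ∨ s = 168 → s ∣ Nat.card H → s * c < Nat.card H) (M : Subgroup Y) : ¬ Cmp M H := fun h =>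
  let ⟨y, a, s, b, d, e⟩ := cmp_bound h (r := r) (by rcases hr with rfl | rfl <;> decide) (by omega) (by omega) hH
  (k s b d).not_ge (hc y a ▸ e)

open Cfsg.Lib.Grp Cfsg.Lib.Calc Cfsg.Lib.Mathieu

omit [Finite Y] in
theorem tab_of_classes {X : Type*} [MulAction Y X] {n w B : ℕ} {pt : ℕ → X} (hi : Inj n pt) (hf : Faithful Y n pt)
    (hw : n ≤ 2 ^ w) {l : List (ℕ × ℕ)} (h : Classes n w pt (⊤ : Subgroup Y) l) (P : ℕ → ℕ → Prop) [∀ a b, Decidable (P a b)]
    (e : allP l (fun p => decide (ordC n w p.1 B ≠ 0 ∧ P (ordC n w p.1 B) p.2)) = true) (y : Y) :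
    P (orderOf y) (Nat.card 𝐂[y]) := by
  obtain ⟨p, hp, x, -, r, c, d⟩ := h.exists_rep (mem_top y)
  have k := of_decide_eq_true (allP_iff.1 e p hp)
  rw [(orderOf_of_mem_cl c).trans (orderOf_eq_ordC hi hf hw r k.1), ← top_inf_eq 𝐂[y], d]
  exact k.2

theorem tab24 (y : M24) : (orderOf y = 2 → Nat.card 𝐂[y] = 21504 ∨ Nat.card 𝐂[y] = 7680) ∧ (orderOf y = 5 → Nat.card 𝐂[y] = 60) ∧
    (orderOf y = 7 → Nat.card 𝐂[y] = 42) ∧ (443520 ≤ Nat.card 𝐂[y] → orderOf y = 1) :=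
  tab_of_classes (B := 30) inj_pt faithful_M24 (by norm_num) cls24
    (fun o c => (o = 2 → c = 21504 ∨ c = 7680) ∧ (o = 5 → c = 60) ∧ (o = 7 → c = 42) ∧ (443520 ≤ c → o = 1)) (by decide +kernel) y

theorem tab23 (y : Spor.M23) : (orderOf y = 2 → Nat.card 𝐂[y] = 2688) ∧ (orderOf y = 7 → Nat.card 𝐂[y] = 14) :=
  tab_of_classes (B := 30) inj_pt (faithful_P24.subgroup _) (by norm_num) clsS23
    (fun o c => (o = 2 → c = 2688) ∧ (o = 7 → c = 14)) (by decide +kernel) y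

theorem tab22 (y : Spor.M22) : (orderOf y = 2 → Nat.card 𝐂[y] = 384) ∧ (orderOf y = 5 → Nat.card 𝐂[y] = 5) ∧
    (orderOf y = 7 → Nat.card 𝐂[y] = 7) :=
  tab_of_classes (B := 30) inj_pt (faithful_P24.subgroup _) (by norm_num) clsS22
    (fun o c => (o = 2 → c = 384) ∧ (o = 5 → c = 5) ∧ (o = 7 → c = 7)) (by decide +kernel) y

theorem tab11 (y : Spor.M11) : (orderOf y = 2 → Nat.card 𝐂[y] = 48) ∧ (orderOf y = 5 → Nat.card 𝐂[y] = 5) :=
  tab_of_classes (B := 30) inj_pt (faithful_P24.subgroup _) (by norm_num) clsS11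
    (fun o c => (o = 2 → c = 48) ∧ (o = 5 → c = 5)) (by decide +kernel) y

omit [Finite Y] in
theorem center_bot_of_card [IsSimpleGroup Y] (h : ¬ (Nat.card Y).Prime) : center Y = ⊥ :=
  St.center_eq_bot_of_simple fun hc =>
    let _ : CommGroup Y := { (inferInstance : Group Y) with mul_comm := hc.is_comm.comm }
    h IsSimpleGroup.prime_card

theorem np_out1 [IsSimpleGroup Y] (h : ¬ (Nat.card Y).Prime) (ho : Nat.card (Out Y) = 1)
    (k : ∀ x : Y, orderOf x = 2 → ∀ M, ¬ Cmp M 𝐂[x]) : NoPu Y :=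
  np_inn (center_bot_of_card h) (fun _ => inn_of_odd (ho ▸ odd_one)) k

theorem np_M11 (h : Spor.IsoM11 Y) : NoPu Y := by
  obtain ⟨e⟩ := h
  have := simple_M11
  refine NoPu.congr e.symm (np_out1 (by rw [card_M11]; norm_num) Cfsg.Agent.S2060.result fun x hx => ?_)
  have c := (tab11 x).1 hx
  exact no_cmp_card (a := 4) (.inl rfl) (by rw [c]; decide) (fun y => (tab11 y).2) (by rw [c]; rintro _ (rfl | rfl) <;> decide)

/-- an involutory automorphism of `N` is induced by an involution of an overgroup `D` in which `N` has index two -/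
theorem PP.exists_inv {N D : Subgroup Y} (h : N ≤ D) (hD : Nat.card D = Nat.card N * 2) (hC : 𝐂(N) = ⊥)
    (ho : Nat.card (Out N) ≤ 2) {σ : MulAut N} {M : Subgroup N} (p : PP σ M) :
    ∃ s ∈ D, orderOf s = 2 ∧ (fixedSubgroup σ).map N.subtype = 𝐂[s] ⊓ N := by
  have hi : (inclusion h).range.index = 2 := Nat.eq_of_mul_eq_mul_left Nat.card_pos (by
    rw [card_mul_index, hD, inclusion_range, Core.card_subgroupOf_of_le h])
  have := normal_of_index_eq_two hi
  obtain ⟨⟨s, hs⟩, k⟩ := ind_of_card (inclusion h) (inclusion_injective h) (eq_bot_iff.2 fun x hx => Subtype.ext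
    (hC.le (mem_cent.2 fun y hy => congrArg Subtype.val (mem_cent.1 hx ⟨y, h hy⟩ ⟨⟨y, hy⟩, rfl⟩)))) (hi ▸ ho) σ
  replace k : ∀ y, (σ y : Y) = s * y * s⁻¹ := fun y => congrArg Subtype.val (k y)
  refine ⟨s, hs, KI.ord_of_sq (hC.le (mem_cent.2 fun y hy => ?_)) fun e => p.ne (by ext y; simpa [e] using k y), ?_⟩
  · have := k (σ ⟨y, hy⟩)
    rw [k ⟨y, hy⟩, ← MulAut.mul_apply, p.sq, MulAut.one_apply] at this
    calc y * (s * s) = s * (s * y * s⁻¹) * s⁻¹ * (s * s) := by rw [← this]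
      _ = s * s * y := by group
  · ext x
    refine ⟨?_, fun ⟨a, b⟩ => ⟨⟨x, b⟩, mem_fix.2 (Subtype.ext (by rw [k, ← mem_cent1.1 a, mul_inv_cancel_right])), rfl⟩⟩
    rintro ⟨y, hy, rfl⟩
    have := k y
    rw [mem_fix.1 hy] at this
    exact ⟨mem_cent1.2 (mul_inv_eq_iff_eq_mul.1 this.symm).symm, y.2⟩

theorem np_pair {X : Type*} [MulAction Y X] [Finite X] (hX : Nat.card X = 24) {a b : X} {N D : Subgroup Y}
    (hN : N = MulAction.stabilizer Y a ⊓ MulAction.stabilizer Y b) (h : N ≤ D) (hD : Nat.card D = Nat.card N * 2) (hC : 𝐂(N) = ⊥)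
    (ho : Nat.card (Out N) ≤ 2) (hs : ∀ s ∈ D, s ∈ N ∨ s • a = b)
    (t1 : ∀ y : Y, orderOf y = 2 → Nat.card 𝐂[y] = 21504 ∨ Nat.card 𝐂[y] = 7680)
    (t2 : ∀ y : N, (orderOf y = 2 → Nat.card 𝐂[y] = 384) ∧ (orderOf y = 5 → Nat.card 𝐂[y] = 5) ∧
      (orderOf y = 7 → Nat.card 𝐂[y] = 7)) : NoPu N := by
  intro σ M p
  obtain ⟨s, a1, a2, a3⟩ := p.exists_inv h hD hC ho
  have c : Nat.card (fixedSubgroup σ) = Nat.card ↥(𝐂[s] ⊓ N) := by rw [← a3, card_map_of_injective N.subtype_injective]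
  rcases hs s a1 with k | k
  · have e : fixedSubgroup σ = 𝐂[(⟨s, k⟩ : N)] := map_injective N.subtype_injective (a3.trans (le_antisymm
      (fun x hx => ⟨⟨x, hx.2⟩, mem_cent1.2 (Subtype.ext (mem_cent1.1 hx.1)), rfl⟩)
      (by rintro _ ⟨x, hx, rfl⟩; exact ⟨mem_cent1.2 (congrArg Subtype.val (mem_cent1.1 hx)), x.2⟩)))
    have c := (t2 ⟨s, k⟩).1 ((orderOf_mk _ _).trans a2)
    exact no_cmp_card (a := 7) (.inl rfl) (by rw [c]; decide) (fun y => (t2 y).2.1) (by rw [c]; rintro _ (rfl | rfl) <;> decide)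
      M (e ▸ p.cmp)
  · have h1 : Nat.card 𝐂[s] ≤ 24 * Nat.card (fixedSubgroup σ) := by
      rw [Mathieu.card_eq_ncard_orbit_mul 𝐂[s] a, c]
      refine Nat.mul_le_mul (hX ▸ Set.ncard_le_card _) (card_le_of_le fun x hx => ⟨hx.1, hN.ge ⟨hx.2, ?_⟩⟩)
      change x • b = b
      rw [← k, ← mul_smul, mem_cent1.1 hx.1, mul_smul, show x • a = a from hx.2]
    have h2 : Nat.card (fixedSubgroup σ) ∣ Nat.card 𝐂[s] := c ▸ card_dvd_of_le inf_le_left
    rcases t1 s a2 with e | e <;> rw [e] at h1 h2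
    · refine no_cmp_card (a := 10) (.inr rfl) h2 (fun y => (t2 y).2.2) (fun r hr d => ?_) M p.cmp
      rcases hr with rfl | rfl
      · exact absurd (d.trans h2) (by decide)
      · obtain ⟨m, hm⟩ := d
        rw [hm] at h1 h2 ⊢
        have h3 : m ∣ 2 ^ 7 := Nat.dvd_of_mul_dvd_mul_left (by decide : 0 < 168) h2
        obtain ⟨i, hi, rfl⟩ := (Nat.dvd_prime_pow Nat.prime_two).1 h3
        interval_cases i <;> omega
    · refine no_cmp_card (a := 9) (.inl rfl) h2 (fun y => (t2 y).2.1) (fun r hr d => ?_) M p.cmp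
      rcases hr with rfl | rfl
      · omega
      · exact absurd (d.trans h2) (by decide)

open scoped Pointwise in
theorem np_M22 (h : Spor.IsoM22 Y) : NoPu Y := by
  obtain ⟨e⟩ := h
  have ne : Golay.G.pt 23 ≠ Golay.G.pt 0 := by decide
  refine NoPu.congr (eM22.trans e.symm) (np_pair (X := GolayPt) (a := Golay.G.pt 23) (b := Golay.G.pt 0)
    (D := MulAction.stabilizer M24 ({Golay.G.pt 23, Golay.G.pt 0} : Finset GolayPt)) (by simp) rfl (fun x hx => ?_)
    (by rw [card_stabilizer_duad (Finset.card_pair ne), card_m22]) (eq_bot_iff.2 fun x hx => ?_)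
    (by rw [out_congr eM22, Cfsg.Agent.S2062.result]) (fun s hs => ?_) (fun y => (tab24 y).1) fun y => ?_)
  · change (x : P24) • ({Golay.G.pt 23, Golay.G.pt 0} : Finset GolayPt) = _
    rw [Finset.smul_finset_insert, Finset.smul_finset_singleton, show (x : P24) • Golay.G.pt 23 = _ from hx.1,
      show (x : P24) • Golay.G.pt 0 = _ from hx.2]
  · refine orderOf_eq_one_iff.1 ((tab24 x).2.2.2 (card_m22 ▸ card_le_of_le fun y hy => mem_cent1.2 (mem_cent.1 hx y hy)))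
  · have h1 : ∀ p ∈ ({Golay.G.pt 23, Golay.G.pt 0} : Finset GolayPt), s • p = Golay.G.pt 23 ∨ s • p = Golay.G.pt 0 :=
      fun p hp => by simpa using smul_mem_of_stab _ s hs p hp
    refine (h1 _ (by simp)).imp_left fun k => ⟨k, (h1 _ (by simp)).resolve_left fun k' => ne ?_⟩
    exact MulAction.injective s (k.trans k'.symm)
  · have := tab22 (eM22 y)
    rwa [MulEquiv.orderOf_eq, ← KI.map_cent1, card_map_of_injective eM22.injective] at this

theorem np_M23 (h : Spor.IsoM23 Y) : NoPu Y := by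
  obtain ⟨e⟩ := h
  have := simple_M23
  refine NoPu.congr e.symm (np_out1 (by rw [card_M23]; norm_num) Cfsg.Agent.S2063.result fun x hx => ?_)
  have c := (tab23 x).1 hx
  exact no_cmp_card (a := 7) (.inr rfl) (by rw [c]; decide) (fun y => (tab23 y).2) (by rw [c]; rintro _ (rfl | rfl) <;> decide)

theorem np_M24 (h : Spor.IsoM24 Y) : NoPu Y := by
  obtain ⟨e⟩ := h
  have := simple_M24
  refine NoPu.congr e.symm (np_out1 (by rw [card_M24]; norm_num) Cfsg.Agent.S2064.result fun x hx => ?_)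
  rcases (tab24 x).1 hx with c | c
  · exact no_cmp_card (a := 10) (.inr rfl) (by rw [c]; decide) (fun y => (tab24 y).2.2.1) (by rw [c]; rintro _ (rfl | rfl) <;> decide)
  · exact no_cmp_card (a := 9) (.inl rfl) (by rw [c]; decide) (fun y => (tab24 y).2.1) (by rw [c]; rintro _ (rfl | rfl) <;> decide)

theorem chP_conj {x y : Y} (c : IsConj x y) (h : ChP 2 𝐂[y]) : ChP 2 𝐂[x] := by
  obtain ⟨g, rfl⟩ := isConj_iff.1 c
  exact (KI.chP_map_iff (f := (MulAut.conj g).toMonoidHom) (MulAut.conj g).injective).1 (KI.map_cent1 (MulAut.conj g) x ▸ h)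

open J4T in
theorem chP_J4' (x : Spor.J4) (hx : orderOf x = 2) : ChP 2 𝐂[x] := by
  have := J4.isJ4.1
  have hH := H1
  have hM := M1
  generalize Γ1 = Γ at hH hM
  rcases Γ.two_classes hH hM hx with c | c <;> refine chP_conj c.symm ?_
  · rw [show 𝐂[Γ.z] = Γ.H from hH.symm]
    exact KI.chP_of_selfcent ⟨Γ.E_le, fun g a => Transfer.mem_normalizer_of_conj_le (Transfer.conj_le_iff.2 fun _ b => Γ.conj_mem_E a b)⟩ (.of_card Γ.card_E) fun g a =>
      zpowers_le.2 Γ.z_mem_E (Γ.cen_E a.1 fun v hv => (mem_cent.1 a.2 _ (Γ.e_mem_E hv)).symm)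
  · have m := Γ.centralizer_duad hH hM
    refine KI.chP_of_selfcent ⟨fun g a => mem_cent1.2 (Γ.V_comm a (Γ.cm_mem 3)), m.trans hM.le⟩ Γ.pg_V fun g a =>
      Γ.kerρ g (m a.1) ((Γ.sp (m a.1)).eq fun c hc n hn _ => ?_)
    rw [hc.code_eq Mathieu.inj_pt Mathieu.R.one, img_id hn, ← mem_cent.1 a.2 _ (Γ.cm_mem n), mul_inv_cancel_right]

theorem np_J4 (h : Spor.IsoJ4 Y) : NoPu Y := by
  obtain ⟨e⟩ := h
  have := J4.isJ4.1
  exact NoPu.congr e.symm (np_out1 (fun k => absurd (J4.isJ4.2 ▸ k.eq_two_or_odd) (by decide)) Cfsg.Agent.S2068.result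
    fun x hx => no_cmp (chP_J4' x hx))

end Cfsg.Lib.QS
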