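import Cfsg.Agent.Lib.QS.Def
import Cfsg.Agent.Lib.QT.CycMain
import Cfsg.Agent.Lib.QE.Thin

/-!
# QS/Ty (S1849): `TY` for the thin groups.
`L₂(2ⁿ)`: `U = unipL x`, `FGS.inner_of_fix_unipL`, `U` elementary.  `Sz(q)`: `|Out|` odd (`S2126`), so `α` is conjugation by a 2-element of `C(U)`, i.e. of
`Z(U)`, which is elementary (`Sz.lieModel`).  `J₁`: `Out = 1` (`S2065`), `U` elementary abelian.  `L₂(p)`: `α ∈ PGL₂(p)` (`FGS.aut_decomp`) centralizes a
four-group of `PSL₂(p)`; an element of order 4 of `PGL₂(p)` has a cyclic centralizer.  See `QE/Thin.lean` (`thin_of_cyL`); `TY.congr` transports.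
-/

set_option autoImplicit false

namespace Cfsg.Lib.QS

open Subgroup Cfsg.Lib.BG Cfsg.Lib.Comp Cfsg.Lib.PSL2 Cfsg.Lib.Small
open scoped Cfsg.Lib.Transfer commutatorElement MatrixGroups

theorem ty_of_odd {Y : Type*} [Group Y] [Finite Y] [IsSimpleGroup Y] (hn : ¬ IsMulCommutative Y) (ho : Odd (Nat.card (Out Y)))
    (h : ∀ S : Sylow 2 Y, ∀ s ∈ (S : Subgroup Y), (∀ y ∈ (S : Subgroup Y), y * s = s * y) → s * s = 1) : TY Y := fun U hU α a k => by
  obtain ⟨S, rfl⟩ := Syl.top_iff_sylow.1 hU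
  obtain ⟨c, rfl⟩ : α ∈ Inn Y := (QuotientGroup.eq_one_iff α).1 (orderOf_eq_one_iff.1 (Nat.eq_one_of_dvd_coprimes
    ((Nat.coprime_two_left.2 ho).pow_left 2) (orderOf_dvd_of_pow_eq_one (by rw [← QuotientGroup.mk_pow]; exact congrArg _ a))
    (orderOf_dvd_natCard _)))
  have c4 : c ^ 2 ^ 2 = 1 := by
    have : c ^ 4 ∈ center Y := mem_center_iff.2 fun y => (mul_inv_eq_iff_eq_mul.1 
      (congrArg (· y) ((map_pow (MulAut.conj (G := Y)) c 4).trans a))).symm
    rcases (inferInstance : (center Y).Normal).eq_bot_or_eq_top with e | e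
    · exact mem_bot.1 (e ▸ this)
    · exact absurd ⟨⟨fun x y => mem_center_iff.1 (e.ge (mem_top y)) x⟩⟩ hn
  have cc : ∀ y ∈ (S : Subgroup Y), y * c = c * y := fun y hy => (mul_inv_eq_iff_eq_mul.1 (k y hy)).symm
  have hP : IsPGroup 2 (zpowers c) := IsPGroup.iff_card.2 (by
    rw [Nat.card_zpowers]; exact ((Nat.dvd_prime_pow Nat.prime_two).1 (orderOf_dvd_of_pow_eq_one c4)).imp fun _ => And.right)
  have := (S.isPGroup'.to_sup_of_normal_left' hP (zpowers_le.2 (centralizer_le_normalizer _ cc)))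
  have m : c ∈ (S : Subgroup Y) := (S.is_maximal' this le_sup_left).le (mem_sup_right (mem_zpowers c))
  exact (map_mul (MulAut.conj (G := Y)) c c).symm.trans (by rw [h S c m cc, map_one])

theorem ty {Y : Type*} [Group Y] [Finite Y] [IsSimpleGroup Y] (hn : ¬ IsMulCommutative Y) (h : QT.CyL Y) : TY Y := by
  rcases h with ⟨F, _, _, _, ⟨e⟩⟩ | ⟨F, _, _, m, hm, hF, ⟨e⟩⟩ | ⟨F, _, _, hp, h2, ⟨e⟩⟩ | ⟨⟨e⟩⟩
  · refine TY.congr e.symm fun U hU α _ k => ?_
    obtain ⟨S, rfl⟩ := Syl.top_iff_sylow.1 hU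
    obtain ⟨x, hx⟩ := exists_sylow_eq_unipL 2 S
    obtain ⟨g, hg, rfl⟩ := FGS.inner_of_fix_unipL α (hx ▸ k)
    by_cases g1 : g = 1
    · simp [g1]
    · rw [← map_mul, (QE.sq_of_two (orderOf_of_mem_unipL 2 hg g1)).1, map_one]
  · let M := (Sz.lieModel hF).congr e
    have c : Nat.card (Out Y) = 2 * m + 1 := (Nat.card_congr (QE.outEq e).toEquiv).trans (Agent.S2126.result hm hF)
    refine ty_of_odd hn (c ▸ odd_two_mul_add_one m) fun S s hs k => ?_
    obtain ⟨x, hx⟩ := M.exists_conj_U_eq S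
    rw [hx] at k hs
    exact (((M.conj x).mem_Z_iff).1 ((M.conj x).mem_Z_of_comm (Sz.exists_ne_zero_ne_one hm hF) hs k)).2
  · refine TY.congr e.symm fun U hU α _ hS => ?_
    obtain ⟨S, rfl⟩ := Syl.top_iff_sylow.1 hU
    rw [← Nat.card_eq_fintype_card] at hp h2
    haveI := Fact.mk hp
    have o : Odd (Nat.card F) := hp.odd_of_ne_two h2
    have hF : Fintype.card F = Nat.card F ^ 1 := by simp
    obtain ⟨y, τ, rfl, -⟩ := FGS.aut_decomp α
    obtain ⟨e⟩ := Linear.nonempty_ringAut_equiv_zmod hF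
    obtain rfl : τ = 1 := e.injective (Subsingleton.elim _ _)
    rw [map_one, mul_one] at hS ⊢
    obtain ⟨V, hV⟩ := exists_four_psl o
    obtain ⟨T, hT⟩ := (IsPGroup.of_card (p := 2) (n := 2) hV.card_four).exists_le_sylow
    obtain ⟨u, rfl⟩ := MulAction.exists_smul_eq PSL(2, F) T S
    have hW := isKleinFour_map toP_injective (isKleinFour_map (f := (MulAut.conj u).toMonoidHom) (MulAut.conj u).injective hV)
    have : y ∈ 𝐂((V.map (MulAut.conj u).toMonoidHom).map toP) := fun _ ⟨s, ⟨v, hv, b⟩, a⟩ => by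
      apply GW.pglAut_injective
      rw [← a, map_mul, map_mul, GW.pglAut_toP]
      ext z
      simp [hS s ⟨v, hT hv, b⟩]
    rw [centralizer_four_pgl o hW] at this
    rw [← map_mul, mul_self_of_isKleinFour hW this, map_one]
  · refine ty_of_odd hn (((out_congr e).trans Agent.S2065.result) ▸ odd_one) fun S s hs _ => ?_
    obtain ⟨t, c, x, r, h, -⟩ := JR.exists_Am_J1
    obtain ⟨T, hT⟩ := h.hl.syl h.odd
    obtain ⟨g, p⟩ := MulAction.exists_smul_eq Spor.J1 T (S.mapSurjective (f := e.toMonoidHom) e.surjective)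
    obtain ⟨u, hu, q⟩ : e s ∈ ((g • T : Sylow 2 Spor.J1) : Subgroup _) := p ▸ mem_map_of_mem _ hs
    have : u * u = 1 := sq u ▸ h.hl.elem.2 u (hT.le hu)
    exact e.injective (by rw [map_mul, ← q, map_one]; simp [← map_mul, this])

end Cfsg.Lib.QS
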