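import Cfsg.Agent.Lib.QS.NpB
import Cfsg.Agent.Lib.J4T.Red
import Cfsg.Agent.Lib.Grp.Ind
import Cfsg.Agent.S5607

/-!
# QS/NpM (S1849): involution centralizers in `M₂₄` and their point stabilizers have no component.
A component `M` of `H` contains an element `y` of order `r = 5, 7`.  For a homomorphism `f` of `H` whose kernel `N` has no element of order `r`,
`M` centralizes `N`, so `|N|` divides `|C(y)| / r` and `|H|` divides `|C(y)| / r · |im f|`.
-/

set_option autoImplicit false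
set_option maxRecDepth 100000

namespace Cfsg.Lib.QS

open Subgroup Cfsg.Lib.BG Cfsg.Lib.Comp Cfsg.Lib.Mathieu Cfsg.Lib.Golay Cfsg.Lib.Calc Cfsg.Lib.Grp MulAction
open scoped Cfsg.Lib.Transfer commutatorElement Pointwise

theorem nc_of_hom {G A : Type*} [Group G] [Finite G] [Group A] {H M : Subgroup G} (f : H →* A) {r d a b : ℕ} (hr : r.Prime)
    (hH : Nat.card H ∣ 2 ^ a * 3 ^ b * r) (hf : ∀ y : H, orderOf y = r → f y ≠ 1)
    (hc : ∀ y : G, orderOf y = r → Nat.card 𝐂[y] = r * d) (hn : ¬ Nat.card H ∣ d * Nat.card A) : ¬ Cmp M H := fun h => by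
  haveI := Fact.mk hr
  have rM : r ∣ Nat.card M := by
    by_contra k
    exact h.not_sol (sol_of_dvd Nat.prime_two Nat.prime_three
      (((Nat.Prime.coprime_iff_not_dvd hr).2 k).symm.dvd_of_dvd_mul_right ((card_dvd h.le).trans hH))) le_rfl
  obtain ⟨y, hy⟩ := exists_prime_orderOf_dvd_card' r rM
  rw [← orderOf_coe] at hy
  rcases h.le_or_cent (map_subtype_le f.ker) (h.le.trans (by
    rw [← normal_subgroupOf_iff_le_normalizer (map_subtype_le _), ← comap_subtype,
      comap_map_eq_self_of_injective (subtype_injective _)]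
    infer_instance)) with k | k
  · obtain ⟨z, hz, e⟩ := k y.2
    exact hf z (by rw [← orderOf_coe, ← hy]; exact congrArg orderOf e) hz
  · have n : ¬ r ∣ Nat.card f.ker := fun k => by
      obtain ⟨z, hz⟩ := exists_prime_orderOf_dvd_card' r k
      exact hf z (by rw [orderOf_coe, hz]) z.2
    have := card_dvd (le_cent1_iff.2 (k y.2))
    rw [card_subtype, hc y hy] at this
    exact hn (card_ker_mul f ▸ mul_dvd_mul (((Nat.Prime.coprime_iff_not_dvd hr).2 n).symm.dvd_of_dvd_mul_left this)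
      (card_subgroup_dvd_card _))

theorem fix_small {G X : Type*} [Group G] [Finite G] [MulAction G X] {y : G} {r : ℕ} (hr : r.Prime) (hy : orderOf y = r)
    {t : Finset X} (h : ∀ a ∈ t, y • a ∈ t) (hc : t.card < r) : ∀ a ∈ t, y • a = a := by
  classical
  have k : ∀ g ∈ zpowers y, ∀ a ∈ t, g • a ∈ t := fun g hg a ha => by
    obtain ⟨n, rfl⟩ := mem_powers_iff_mem_zpowers.2 hg
    induction n with
    | zero => simpa using ha
    | succ n ih => simpa only [pow_succ', mul_smul] using h _ (ih (pow_mem (mem_zpowers y) n))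
  refine (mem_ker_indPerm (h := k) (g := ⟨y, mem_zpowers y⟩)).1 (orderOf_eq_one_iff.1 ?_)
  refine ((Nat.dvd_prime hr).1 ((orderOf_map_dvd _ _).trans (by rw [orderOf_mk, hy]))).resolve_right fun e => ?_
  have := orderOf_dvd_natCard (indPerm _ t k ⟨y, mem_zpowers y⟩)
  rw [e, Nat.card_perm, Nat.card_eq_fintype_card, Fintype.card_coe, hr.dvd_factorial] at this
  omega

theorem cen_ord {r c : ℕ} (e : allP c24 (fun p => bor (!Nat.beq (ordT p.1) r) (Nat.beq p.2 c)) = true) (y : M24)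
    (h : orderOf y = r) : Nat.card 𝐂[y] = c := by
  obtain ⟨p, hp, -, k, rfl⟩ := exists_conj24 y
  rw [h, List.mem_filter, tOF, band_eq_true] at hp
  have := allP_iff.1 e p hp.1
  rw [hp.2.1] at this
  rw [(cj_cen (k := k) (x := mk p.1)).card, ← beq_iff.1 this]
  exact top_inf_eq (Subgroup.centralizer {mk p.1}) ▸ cls24.cent p hp.1

theorem cen7 : ∀ y : M24, orderOf y = 7 → Nat.card 𝐂[y] = 7 * 6 := cen_ord (by decide +kernel)

theorem cen5 : ∀ y : M24, orderOf y = 5 → Nat.card 𝐂[y] = 5 * 12 := cen_ord (by decide +kernel)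

theorem fix7 {y : M24} (h : orderOf y = 7) {s : Finset GolayPt} (k : ∀ a ∈ s, y • a = a) : s.card ≤ 3 :=
  List.mem_singleton.1 (card_fixP_mem (a := 7) (l := [3]) (by decide +kernel) y.2 ((orderOf_coe y).trans h)) ▸
    Finset.card_le_card fun a ha => Finset.mem_filter.2 ⟨Finset.mem_univ _, k a ha⟩

theorem fix5 {y : M24} (h : orderOf y = 5) {s : Finset GolayPt} (k : ∀ a ∈ s, y • a = a) : s.card ≤ 4 :=
  List.mem_singleton.1 (card_fixP_mem (a := 5) (l := [4]) (by decide +kernel) y.2 ((orderOf_coe y).trans h)) ▸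
    Finset.card_le_card fun a ha => Finset.mem_filter.2 ⟨Finset.mem_univ _, k a ha⟩

variable {x : M24} {M : Subgroup M24} {p q : GolayPt}

theorem cm_smul {g : M24} (hg : g ∈ 𝐂[x]) (a : GolayPt) : x • g • a = g • x • a := by
  rw [← mul_smul, ← mul_smul, mem_cent1.1 hg]

theorem mem_fixP {a : GolayPt} : a ∈ fixP x ↔ x • a = a := Finset.mem_filter.trans (and_iff_right (Finset.mem_univ _))

theorem fixP_smul {g : M24} (hg : g ∈ 𝐂[x]) {a : GolayPt} : g • a ∈ fixP x ↔ a ∈ fixP x := by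
  rw [mem_fixP, mem_fixP, cm_smul hg, smul_left_cancel_iff]

theorem inv_cases (hx : orderOf x = 2) : (fixP x).card = 8 ∧ Nat.card 𝐂[x] = 21504 ∨ (fixP x).card = 0 ∧ Nat.card 𝐂[x] = 7680 := by
  have o := (orderOf_coe x).trans hx
  have := card_fixP_mem (a := 2) (l := [8, 0]) (by decide +kernel) x.2 o
  simp only [List.mem_cons, List.not_mem_nil, or_false] at this
  refine this.imp (fun h => ⟨h, ?_⟩) fun h => ⟨h, ?_⟩
  · obtain ⟨-, k, e⟩ := conj_2A x.2 o h
    rw [← show k * mk r2A * k⁻¹ = x from Subtype.ext e, (cj_cen (k := k) (x := mk r2A)).card, card_cen_2A]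
  · obtain ⟨-, k, e⟩ := conj_2B x.2 o h
    rw [← show k * mk r2B * k⁻¹ = x from Subtype.ext e, (cj_cen (k := k) (x := mk r2B)).card, card_cen_2B]

theorem card_perm_fin {X : Type*} (s : Finset X) : Nat.card (Equiv.Perm s) = s.card.factorial := by
  classical
  rw [Nat.card_perm, Nat.card_eq_fintype_card, Fintype.card_coe]

theorem nc24 (hx : orderOf x = 2) : ¬ Cmp M 𝐂[x] := by
  rcases inv_cases hx with ⟨h, c⟩ | ⟨h, c⟩
  · refine nc_of_hom (indPerm 𝐂[x] (fixP x) fun g hg a ha => (fixP_smul hg).2 ha) (a := 10) (b := 1) (by norm_num)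
      (by rw [c]; norm_num) (fun y hy e => ?_) cen7 (by rw [c, card_perm_fin, h]; decide)
    exact absurd (h ▸ fix7 ((orderOf_coe y).trans hy) (mem_ker_indPerm.1 e)) (by norm_num)
  · obtain ⟨-, -, S, hS, -, k⟩ := Agent.S5607.result x x.2 ((orderOf_coe x).trans hx) (fixP_card_eq_zero.1 h)
    refine nc_of_hom (indPerm 𝐂[x] S fun g hg t ht => ?_) (a := 9) (b := 1) Nat.prime_five
      (by rw [c]; norm_num) (fun y hy e => ?_) cen5 (by rw [c, card_perm_fin, hS.1]; decide)
    · rw [← k g g.2 (congrArg Subtype.val (mem_cent1.1 hg))]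
      exact Finset.smul_mem_smul_finset ht
    · obtain ⟨t, ht, u, hu, n⟩ := Finset.one_lt_card.1 (show 1 < S.card by rw [hS.1]; norm_num)
      have o := (orderOf_coe y).trans hy
      have f : ∀ t ∈ S, ∀ a ∈ t, (y : M24) • a = a := fun t ht => fix_small Nat.prime_five o
        (fun a ha => mem_ker_indPerm.1 e t ht ▸ Finset.smul_mem_smul_finset ha) (by rw [hS.2.1 t ht]; norm_num)
      exact absurd ((hS.2.2 t ht u hu n).2 ▸ fix5 o (s := t ∪ u) fun a ha =>
        (Finset.mem_union.1 ha).elim (f t ht a) (f u hu a)) (by norm_num)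

theorem nc23 (hx : orderOf x = 2) (p : GolayPt) : ¬ Cmp M (𝐂[x] ⊓ stabilizer M24 p) := by
  have e := Mathieu.card_eq_ncard_orbit_mul 𝐂[x] p
  rcases inv_cases hx with ⟨h, c⟩ | ⟨h, c⟩
  · have d : Nat.card ↥(𝐂[x] ⊓ stabilizer M24 p) ∣ 21504 := c ▸ card_dvd inf_le_left
    have n : ∀ s : Finset GolayPt, s.card ≤ 16 → (∀ g ∈ 𝐂[x], g • p ∈ s) → ∀ m ≤ 7,
        ¬ Nat.card ↥(𝐂[x] ⊓ stabilizer M24 p) ∣ 6 * m.factorial := fun s h1 h2 m h3 k => by
      have l : (orbit 𝐂[x] p).ncard ≤ 16 := (Set.ncard_le_ncard (t := s) (by rintro _ ⟨g, rfl⟩; exact h2 g g.2)).trans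
        ((Set.ncard_coe_finset s).trans_le h1)
      have := Nat.le_of_dvd (by decide) (Nat.dvd_gcd d (k.trans (mul_dvd_mul_left 6 (Nat.factorial_dvd_factorial h3))))
      exact absurd (c.symm.trans e) (ne_of_gt ((Nat.mul_le_mul l this).trans_lt (by decide)))
    by_cases hp : p ∈ fixP x
    · refine nc_of_hom (indPerm _ ((fixP x).erase p) fun g hg a ha => ?_) (a := 10) (b := 1) (by norm_num) d
        (fun y hy e => ?_) cen7 (by
          rw [card_perm_fin]
          exact n (fixP x) (by omega) (fun g hg => (fixP_smul hg).2 hp) _ (by rw [Finset.card_erase_of_mem hp, h]))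
      · rw [Finset.mem_erase] at ha ⊢
        exact ⟨fun k => ha.1 (smul_left_cancel g (k.trans hg.2.symm)), (fixP_smul hg.1).2 ha.2⟩
      · have := fix7 ((orderOf_coe y).trans hy) (mem_ker_indPerm.1 e)
        rw [Finset.card_erase_of_mem hp, h] at this
        omega
    · have xx : ∀ a : GolayPt, x • x • a = a := fun a => by rw [← mul_smul, ← sq, ← hx, pow_orderOf_eq_one, one_smul]
      have m : ∀ a, a ∈ (fixP x)ᶜ \ {p, x • p} ↔ a ∉ fixP x ∧ a ≠ p ∧ a ≠ x • p := fun a => by simp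
      have c1 : ((fixP (x : P24))ᶜ).card = 16 := by rw [Finset.card_compl, h, card_golayPt]
      have c2 : ((fixP x)ᶜ \ {p, x • p}).card = 14 := by
        rw [Finset.card_sdiff_of_subset, c1, Finset.card_pair fun k => hp (mem_fixP.2 k.symm)]
        intro a ha
        rcases Finset.mem_insert.1 ha with rfl | ha
        · exact Finset.mem_compl.2 hp
        · exact Finset.mem_singleton.1 ha ▸ Finset.mem_compl.2 (mt (fixP_smul (mem_cent1.2 rfl)).1 hp)
      have cl : ∀ g ∈ 𝐂[x], (g • p = p ∨ g = x) → ∀ a ∈ (fixP x)ᶜ \ {p, x • p}, g • a ∈ (fixP x)ᶜ \ {p, x • p} := by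
        intro g hg k a ha
        rw [m] at ha ⊢
        refine ⟨mt (fixP_smul hg).1 ha.1, ?_⟩
        rcases k with k | rfl
        · exact ⟨fun r => ha.2.1 (smul_left_cancel g (r.trans k.symm)),
            fun r => ha.2.2 (smul_left_cancel g (by rw [r, ← cm_smul hg, k]))⟩
        · exact ⟨fun r => ha.2.2 (by rw [← r, xx]), fun r => ha.2.1 (smul_left_cancel _ r)⟩
      refine nc_of_hom (indPerm _ (((fixP x)ᶜ \ {p, x • p}).image fun a => ({a, x • a} : Finset GolayPt)) fun g hg t ht => ?_)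
        (a := 10) (b := 1) (by norm_num) d (fun y hy e => ?_) cen7 (by
          rw [card_perm_fin]
          refine n (fixP x)ᶜ c1.le (fun g hg => Finset.mem_compl.2 (mt (fixP_smul hg).1 hp)) _ ?_
          have := Finset.mul_card_image_le_card (f := fun a => ({a, x • a} : Finset GolayPt)) ((fixP x)ᶜ \ {p, x • p}) 2 (by
            intro t ht
            obtain ⟨a, ha, rfl⟩ := Finset.mem_image.1 ht
            refine Finset.one_lt_card.2 ⟨a, Finset.mem_filter.2 ⟨ha, rfl⟩, x • a, Finset.mem_filter.2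
              ⟨cl x (mem_cent1.2 rfl) (.inr rfl) a ha, by rw [xx, Finset.pair_comm]⟩, fun k => ((m a).1 ha).1 (mem_fixP.2 k.symm)⟩)
          omega)
      · obtain ⟨a, ha, rfl⟩ := Finset.mem_image.1 ht
        exact Finset.mem_image.2 ⟨g • a, cl g hg.1 (.inl hg.2) a ha, by
          rw [Finset.smul_finset_insert, Finset.smul_finset_singleton, cm_smul hg.1]⟩
      · have o := (orderOf_coe y).trans hy
        have := fix7 o (s := (fixP x)ᶜ \ {p, x • p}) fun a ha => fix_small (by norm_num) o (t := {a, x • a})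
          (fun b hb => mem_ker_indPerm.1 e _ (Finset.mem_image_of_mem _ ha) ▸ Finset.smul_mem_smul_finset hb)
          (Finset.card_le_two.trans_lt (by norm_num)) a (Finset.mem_insert_self _ _)
        omega
  · obtain ⟨-, k, -⟩ := Agent.S5607.result x x.2 ((orderOf_coe x).trans hx) (fixP_card_eq_zero.1 h)
    have : orbit 𝐂[x] p = Set.univ := Set.eq_univ_of_forall fun q =>
      let ⟨g, a, b, d⟩ := k p q
      mem_orbit_sub.2 ⟨⟨g, a⟩, mem_cent1.2 (Subtype.ext b), d⟩
    rw [this, c, Set.ncard_univ, Nat.card_eq_fintype_card, card_golayPt] at e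
    exact fun k => k.not_sol (sol_of_dvd (a := 6) (b := 1) Nat.prime_two Nat.prime_five (dvd_of_eq (by omega))) k.le

theorem nc22 (hx : orderOf x = 2) (hp : x • p = p) (hq : x • q = q) (n : p ≠ q) :
    ¬ Cmp M (𝐂[x] ⊓ (stabilizer M24 p ⊓ stabilizer M24 q)) := fun k => by
  haveI : Fact (Nat.Prime 7) := ⟨by norm_num⟩
  rw [← mem_fixP] at hp hq
  obtain ⟨h, c⟩ := (inv_cases hx).resolve_right fun h => Finset.card_ne_zero_of_mem hp h.1
  refine k.not_sol (sol_of_dvd (a := 10) (b := 1) Nat.prime_two Nat.prime_three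
    (Nat.Coprime.dvd_of_dvd_mul_right ((Nat.Prime.coprime_iff_not_dvd (Fact.out : Nat.Prime 7)).2 fun d => ?_).symm
      (c ▸ card_dvd inf_le_left :))) k.le
  obtain ⟨y, hy⟩ := exists_prime_orderOf_dvd_card' 7 d
  have o := (orderOf_coe y).trans hy
  have c6 : (((fixP x).erase p).erase q).card = 6 := by
    rw [Finset.card_erase_of_mem (Finset.mem_erase.2 ⟨n.symm, hq⟩), Finset.card_erase_of_mem hp, h]
  refine absurd (c6 ▸ fix7 o (fix_small (by norm_num) o (fun a ha => ?_) (by omega))) (by norm_num)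
  simp only [Finset.mem_erase] at ha ⊢
  exact ⟨fun r => ha.1 (smul_left_cancel _ (r.trans y.2.2.2.symm)), fun r => ha.2.1 (smul_left_cancel _ (r.trans y.2.2.1.symm)),
    (fixP_smul y.2.1).2 ha.2.2⟩

/-- every automorphism of `M₂₂` is induced by the stabilizer of the duad -/
theorem aut22 (σ : MulAut m22) : ∃ g ∈ J4T.Du, ∀ y : m22, (σ y : M24) = g * y * g⁻¹ := by
  have : (m22.subgroupOf J4T.Du).Normal := normal_of_index_eq_two J4T.Rd.idx
  let c : J4T.Du →* MulAut m22 :=
    (MulAut.congr (subgroupOfEquivOfLe J4T.Rd.le_Du)).toMonoidHom.comp (MulAut.conjNormal (H := m22.subgroupOf J4T.Du))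
  have k : ∀ g y, (c g y : M24) = g * y * (g : M24)⁻¹ := fun _ _ => rfl
  have hc : Function.Injective c := (injective_iff_map_eq_one _).2 fun g hg =>
    Subtype.ext (J4T.Rd.cent22 g.2 fun y hy => mul_inv_eq_iff_eq_mul.1 ((k g ⟨y, hy⟩).symm.trans (by rw [hg]; rfl)))
  obtain ⟨g, rfl⟩ := ((Nat.bijective_iff_injective_and_card c).2 ⟨hc, J4T.Rd.card_Du.trans
    (J4T.Rd.card_aut.symm.trans (Nat.card_congr (MulAut.congr eM22).toEquiv).symm)⟩).2 σ
  exact ⟨g, g.2, k g⟩

theorem np_m22 : NoPu m22 := fun σ M k => by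
  obtain ⟨g, hg, e⟩ := aut22 σ
  have o : orderOf g = 2 := orderOf_eq_prime (J4T.Rd.cent22 (pow_mem hg 2) fun y hy => by
    have := congrArg (fun α : MulAut m22 => (α ⟨y, hy⟩ : M24)) k.sq
    simp only [MulAut.mul_apply, e, MulAut.one_apply] at this
    rw [← mul_inv_eq_iff_eq_mul, sq]; exact Eq.trans (by group) this) fun r => k.ne (MulEquiv.ext fun y => Subtype.ext (by simp [e, r]))
  have c := k.cmp.map m22.subtype fun r => k.cmp.ne_bot (eq_bot_iff.2 (r.trans (ker_subtype _).le))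
  have f : (fixedSubgroup σ).map m22.subtype = 𝐂[g] ⊓ m22 := by
    ext y
    constructor
    · rintro ⟨y, hy, rfl⟩
      exact ⟨mem_cent1.2 (mul_inv_eq_iff_eq_mul.1 ((e y).symm.trans (congrArg Subtype.val hy))).symm, y.2⟩
    · rintro ⟨a, b⟩
      exact ⟨⟨y, b⟩, Subtype.ext ((e _).trans (mul_inv_eq_iff_eq_mul.2 (mem_cent1.1 a).symm)), rfl⟩
  rw [f] at c
  have s : ∀ a, a ∈ G.toF 8388609 ↔ a = G.pt 23 ∨ a = G.pt 0 := by decide +kernel
  have t : ∀ a, g • a = G.pt 23 ∨ g • a = G.pt 0 ↔ a = G.pt 23 ∨ a = G.pt 0 := fun a => by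
    rw [← s, ← s]; exact apply_mem_iff hg
  have n : G.pt 23 ≠ G.pt 0 := by decide
  rcases (t _).2 (.inl rfl) with r | r
  · exact nc22 o r (((t _).2 (.inr rfl)).resolve_left fun r' => n (smul_left_cancel g (r.trans r'.symm))) n c
  · refine nc23 o (G.pt 23) (M := M.map m22.subtype) ?_
    rwa [show 𝐂[g] ⊓ stabilizer M24 (G.pt 23) = 𝐂[g] ⊓ m22 from le_antisymm
      (fun y hy => ⟨hy.1, hy.2, mem_stabilizer_iff.2 (by rw [← r, ← cm_smul hy.1, show y • G.pt 23 = _ from hy.2])⟩)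
      (inf_le_inf_left _ inf_le_left)]

theorem nc_m23 (y : m23) (hy : orderOf y = 2) (M : Subgroup m23) : ¬ Cmp M 𝐂[y] := fun k => by
  have c := k.map m23.subtype fun r => k.ne_bot (eq_bot_iff.2 (r.trans (ker_subtype _).le))
  refine nc23 ((orderOf_coe y).trans hy) (G.pt 23) (M := M.map m23.subtype) ?_
  rwa [show 𝐂[(y : M24)] ⊓ stabilizer M24 (G.pt 23) = 𝐂[y].map m23.subtype from le_antisymm
    (fun z hz => ⟨⟨z, hz.2⟩, mem_cent1.2 (Subtype.ext (mem_cent1.1 hz.1)), rfl⟩) (by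
      rintro _ ⟨z, hz, rfl⟩
      exact ⟨mem_cent1.2 (congrArg Subtype.val (mem_cent1.1 hz)), z.2⟩)]

theorem nc_M11 (y : Spor.M11) (hy : orderOf y = 2) (M : Subgroup Spor.M11) : ¬ Cmp M 𝐂[y] := fun k => by
  obtain ⟨p, hp, x, -, r, c, d⟩ := clsS11.exists_rep (mem_top y)
  have e : allP c11 (fun p => decide (ordC 24 5 p.1 30 ≠ 0 ∧ (ordC 24 5 p.1 30 = 2 → p.2 = 48))) = true := by decide +kernel
  obtain ⟨a, b⟩ := of_decide_eq_true (allP_iff.1 e p hp)
  rw [top_inf_eq, b ((orderOf_eq_ordC inj_pt (faithful_P24.subgroup _) (by norm_num) r a).symm.trans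
    ((orderOf_of_mem_cl c).symm.trans hy))] at d
  exact k.not_sol (sol_of_dvd (a := 4) (b := 1) Nat.prime_two Nat.prime_three (dvd_of_eq d)) k.le

end Cfsg.Lib.QS
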